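import Cfsg.Agent.MT.Gen
import Cfsg.Agent.H4.Four
import Cfsg.Agent.H9.Loc1
import Cfsg.Agent.L.ZStar

/-! Endgame: a subgroup containing the centralizer of `z` and controlling its local fusion is
the whole group. -/

set_option autoImplicit false
set_option linter.unusedVariables false
set_option linter.unusedSectionVars false

namespace U6

open Cfsg Subgroup H4 H5

variable {G : Type*} [Group G] [Finite G]

theorem ic_sq {z e : G} (hz : z * z = 1) (h : IsConj z e) : e * e = 1 := by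
  obtain ⟨g, rfl⟩ := isConj_iff.1 h
  calc g * z * g⁻¹ * (g * z * g⁻¹) = g * (z * z) * g⁻¹ := by group
    _ = 1 := by rw [hz]; group

theorem ic_ne {z e : G} (hz : z ≠ 1) (h : IsConj z e) : e ≠ 1 := by
  rintro rfl; exact hz (isConj_one_left.1 h)

theorem inv_of_sq {a : G} (h : a * a = 1) : a⁻¹ = a := inv_eq_of_mul_eq_one_right h

theorem dih_pow {a b : G} (ha : a * a = 1) (hb : b * b = 1) (k : ℕ) :
    a * (a * b) ^ k = ((a * b) ^ k)⁻¹ * a ∧ b * (a * b) ^ k = ((a * b) ^ k)⁻¹ * b := by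
  have e1 : a * (a * b) * a⁻¹ = (a * b)⁻¹ := H9.invol_conj_mul ha hb
  have e2 : b * (a * b) * b⁻¹ = (a * b)⁻¹ := by
    rw [mul_inv_rev, inv_of_sq ha, inv_of_sq hb, mul_assoc, mul_assoc, hb, mul_one]
  have f1 := H9.conj_inv_of_mem_zpowers e1 (npow_mem_zpowers (a * b) k)
  have f2 := H9.conj_inv_of_mem_zpowers e2 (npow_mem_zpowers (a * b) k)
  exact ⟨by rw [← f1]; group, by rw [← f2]; group⟩

theorem dih_even {a b : G} (ha : a * a = 1) (hb : b * b = 1) (h : ¬ Odd (orderOf (a * b))) :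
    ∃ u : G, u * u = 1 ∧ u ≠ 1 ∧ Commute a u ∧ Commute b u ∧
      (IsConj a (a * u) ∨ IsConj b (a * u)) ∧ u ∈ zpowers (a * b) := by
  obtain ⟨k, hk⟩ := Nat.not_odd_iff_even.1 h
  have hp : 0 < orderOf (a * b) := orderOf_pos _
  have u2 : (a * b) ^ k * (a * b) ^ k = 1 := by rw [← pow_add, ← hk, pow_orderOf_eq_one]
  obtain ⟨d1, d2⟩ := dih_pow ha hb k
  rw [inv_of_sq u2] at d1 d2
  refine ⟨(a * b) ^ k, u2, pow_ne_one_of_lt_orderOf (by omega) (by omega), d1, d2, ?_,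
    npow_mem_zpowers _ _⟩
  rcases Nat.even_or_odd' k with ⟨j, rfl | rfl⟩
  · refine Or.inl (isConj_iff.2 ⟨((a * b) ^ j)⁻¹, ?_⟩)
    rw [inv_inv, ← (dih_pow ha hb j).1, mul_assoc, ← pow_add, two_mul]
  · refine Or.inr (isConj_iff.2 ⟨((a * b) ^ j)⁻¹, ?_⟩)
    rw [inv_inv, ← (dih_pow ha hb j).2, mul_assoc, ← pow_add, pow_succ', ← mul_assoc a, ← mul_assoc a,
      ha, one_mul, two_mul]

theorem dih_odd {a b : G} (ha : a * a = 1) (hb : b * b = 1) (h : Odd (orderOf (a * b))) :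
    ∃ m : G, IsConj a m ∧ m * a * m⁻¹ = b ∧
      ∀ x : G, x * a * x⁻¹ = b → x * b * x⁻¹ = a → Commute x m := by
  obtain ⟨k, hk⟩ := h
  have u : (a * b) ^ k * (a * b) ^ k * (a * b) = 1 := by
    rw [← pow_add, ← pow_succ, ← two_mul, ← hk, pow_orderOf_eq_one]
  obtain ⟨d1, d2⟩ := dih_pow ha hb k
  obtain ⟨g, -, e⟩ := H9.exists_conj_eq_mul (a := a) (u := a * b) ⟨k, hk⟩ (H9.invol_conj_mul ha hb)
    (npow_mem_zpowers (a * b) k)
  have ba : b * a = (a * b)⁻¹ := by rw [mul_inv_rev, inv_of_sq ha, inv_of_sq hb]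
  have ww : (a * b) ^ k * (a * b) ^ k = b * a := by rw [ba]; exact eq_inv_of_mul_eq_one_left u
  have e1 : ∀ x : G, x * a * x⁻¹ = b → x * b * x⁻¹ = a →
      x * (a * b) ^ k * x⁻¹ = ((a * b) ^ k)⁻¹ := fun x x1 x2 => by
    rw [← conj_pow, ← inv_pow, ← ba]
    congr 1
    calc x * (a * b) * x⁻¹ = x * a * x⁻¹ * (x * b * x⁻¹) := by group
      _ = _ := by rw [x1, x2]
  generalize (a * b) ^ k = w at *
  have d3 : a * w⁻¹ = w * a := by
    calc a * w⁻¹ = w * (w⁻¹ * a) * w⁻¹ := by group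
      _ = w * a := by rw [← d1]; group
  refine ⟨w * a, isConj_iff.2 ⟨g, e⟩, ?_, fun x x1 x2 => ?_⟩
  · calc w * a * a * (w * a)⁻¹ = w * (a * a) * a⁻¹ * w⁻¹ := by group
      _ = w * (a * w⁻¹) := by rw [ha, inv_of_sq ha]; group
      _ = w * w * a := by rw [d3]; group
      _ = b := by rw [ww, mul_assoc, ha, mul_one]
  · have : x * (w * a) * x⁻¹ = w * a := by
      calc x * (w * a) * x⁻¹ = x * w * x⁻¹ * (x * a * x⁻¹) := by group
        _ = w⁻¹ * (b * a) * a := by rw [e1 x x1 x2, x1, mul_assoc _ (b * a), mul_assoc b, ha, mul_one]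
        _ = w * a := by rw [← ww]; group
    exact mul_inv_eq_iff_eq_mul.1 this

/-- hypotheses of the endgame -/
structure EG (z : G) (M : Subgroup G) (D : Set G) : Prop where
  hz : orderOf z = 2
  hD : ∀ d, d ∈ D ↔ ∃ m ∈ M, m * z * m⁻¹ = d
  hC : centralizer {z} ≤ M
  hF : ∀ g, Commute (g * z * g⁻¹) z → g * z * g⁻¹ ∈ D
  hodd : Odd D.ncard
  hA : ∀ t ∈ D, t ≠ z → Commute t z → ∀ m ∈ M, Commute m (z * t) →
    m * z * m⁻¹ = z ∨ m * z * m⁻¹ = t
  hB : ∀ t ∈ D, t ≠ z → Commute t z → ∃ a ∈ D, ∃ b ∈ D, ∃ d ∈ D,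
    Commute a b ∧ Commute a d ∧ Commute b d ∧ a * b * d = z * t

namespace EG

variable {z : G} {M : Subgroup G} {D : Set G} (h : EG z M D)
include h

theorem z2 : z * z = 1 := mul_self_eq_one_of_orderOf h.hz
theorem z1 : z ≠ 1 := ne_one_of_orderOf h.hz

theorem cz {x : G} (e : Commute x z) : x ∈ M :=
  h.hC (mem_centralizer_singleton_iff.2 e.eq)

theorem zM : z ∈ M := h.cz (Commute.refl z)
theorem zD : z ∈ D := (h.hD z).2 ⟨1, one_mem _, by simp⟩

theorem ic {d : G} (hd : d ∈ D) : IsConj z d := by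
  obtain ⟨m, -, e⟩ := (h.hD d).1 hd; exact isConj_iff.2 ⟨m, e⟩

theorem sq {d : G} (hd : d ∈ D) : d * d = 1 := ic_sq h.z2 (h.ic hd)

theorem DM {d : G} (hd : d ∈ D) : d ∈ M := by
  obtain ⟨m, hm, rfl⟩ := (h.hD d).1 hd
  exact mul_mem (mul_mem hm h.zM) (inv_mem hm)

theorem cj {d m : G} (hd : d ∈ D) (hm : m ∈ M) : m * d * m⁻¹ ∈ D := by
  obtain ⟨k, hk, rfl⟩ := (h.hD d).1 hd
  exact (h.hD _).2 ⟨m * k, mul_mem hm hk, by group⟩

theorem blk {d g : G} (hd : d ∈ D) (hg : g * d * g⁻¹ ∈ D) : g ∈ M := by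
  obtain ⟨k, hk, rfl⟩ := (h.hD d).1 hd
  obtain ⟨m, hm, e⟩ := (h.hD _).1 hg
  have : m⁻¹ * g * k ∈ M := h.cz (mul_inv_eq_iff_eq_mul.1 (by
    calc m⁻¹ * g * k * z * (m⁻¹ * g * k)⁻¹ = m⁻¹ * (g * (k * z * k⁻¹) * g⁻¹) * m := by group
      _ = z := by rw [← e]; group))
  simpa [mul_assoc] using mul_mem (mul_mem hm this) (inv_mem hk)

theorem cen {d x : G} (hd : d ∈ D) (e : Commute x d) : x ∈ M :=
  h.blk hd (by rwa [e.eq, mul_inv_cancel_right])

theorem fus {d e : G} (hd : d ∈ D) (he : IsConj z e) (c : Commute e d) : e ∈ D := by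
  obtain ⟨k, hk, rfl⟩ := (h.hD d).1 hd
  obtain ⟨g, rfl⟩ := isConj_iff.1 he
  have := h.hF (k⁻¹ * g) (by
    have := c.map (MulAut.conj k⁻¹)
    simp only [MulAut.conj_apply, inv_inv] at this
    convert this using 1 <;> group)
  convert h.cj this hk using 1; group

theorem fix {u : G} (hu : u ∈ M) (u2 : u * u = 1) : ∃ d ∈ D, Commute u d := by
  classical
  have : Fintype D := Fintype.ofFinite D
  have : Fact (Nat.Prime 2) := ⟨Nat.prime_two⟩
  have inv : Function.Involutive (fun d : D => (⟨u * d * u⁻¹, h.cj d.2 hu⟩ : D)) := fun d =>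
    Subtype.ext (by
      calc u * (u * d * u⁻¹) * u⁻¹ = (u * u) * d * (u * u)⁻¹ := by group
        _ = d := by rw [u2]; group)
  obtain ⟨d, hd⟩ := Equiv.Perm.exists_fixed_point_of_prime (p := 2) (n := 1) (α := D)
    (by rw [← Nat.card_eq_fintype_card, Nat.card_coe_set_eq]
        exact fun e => Nat.not_even_iff_odd.2 h.hodd (even_iff_two_dvd.2 e))
    (σ := inv.toPerm) (by ext d; simp [pow_two, inv d])
  exact ⟨d, d.2, mul_inv_eq_iff_eq_mul.1 (congrArg Subtype.val hd)⟩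

theorem inM {e : G} (he : IsConj z e) (hM : e ∈ M) : e ∈ D := by
  obtain ⟨d, hd, c⟩ := h.fix hM (ic_sq h.z2 he)
  exact h.fus hd he c

omit h in
theorem le4 {X : Type*} [Group X] [Finite X] {K H : Subgroup X} [K.Normal] {a b : X} (ha : a * a = 1)
    (hb : b * b = 1) (hab : a * b = b * a) (hK : (Nat.card K).Coprime 2)
    (e1 : K ⊓ centralizer {a} ≤ H) (e2 : K ⊓ centralizer {b} ≤ H)
    (e3 : K ⊓ centralizer {a * b} ≤ H) : K ≤ H := by
  have t : ∀ c : X, c = 1 → K ⊓ centralizer {c} ≤ H → K ≤ H := by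
    rintro _ rfl e x hx
    exact e ⟨hx, mem_centralizer_singleton_iff.2 (by simp)⟩
  by_cases h1 : a = 1; · exact t a h1 e1
  by_cases h2 : b = 1; · exact t b h2 e2
  by_cases h3 : a = b; · exact t _ (by rw [← h3, ha]) e3
  exact le_of_four ha hb hab h1 h2 h3 (le_normalizer_of_normal (mem_top _))
    (le_normalizer_of_normal (mem_top _)) hK e1 e2 e3

theorem cc0 {t : G} (ht : t ∈ D) (tz : t ≠ z) (c : Commute t z) {x : G} (hx : Commute x (z * t)) :
    x ∈ M := by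
  set u := z * t with hu
  have u2 : u * u = 1 := by
    calc z * t * (z * t) = z * (t * z) * t := by group
      _ = (z * z) * (t * t) := by rw [c.eq]; group
      _ = 1 := by rw [h.z2, h.sq ht, one_mul]
  let C := centralizer ({u} : Set G)
  have mC : ∀ {y : G}, y ∈ C ↔ Commute y u := mem_centralizer_singleton_iff
  have zC : z ∈ C := mC.2 ((Commute.refl z).mul_right c.symm)
  let u' : C := ⟨u, mC.2 (Commute.refl u)⟩
  have uc : u' ∈ center C := mem_center_iff.2 fun g => Subtype.ext (mC.1 g.2).eq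
  let N := zpowers u'
  have : N.Normal := ⟨fun n hn g => by
    rwa [mem_center_iff.1 (zpowers_le.2 uc hn) g, mul_inv_cancel_right]⟩
  have mN : ∀ n : C, n ∈ N → (n : G) = 1 ∨ (n : G) = u := by
    rintro _ ⟨k, rfl⟩
    have e2 : u ^ (2 : ℤ) = 1 := by rw [zpow_two, u2]
    rcases Int.even_or_odd' k with ⟨j, rfl | rfl⟩
    · left; show u ^ (2 * j) = 1; rw [zpow_mul, e2, one_zpow]
    · right; show u ^ (2 * j + 1) = u; rw [zpow_add_one, zpow_mul, e2, one_zpow, one_mul]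
  let f := QuotientGroup.mk' N
  have fs : Function.Surjective f := QuotientGroup.mk'_surjective N
  have fe : ∀ a b : C, f a = f b → (a : G) = b ∨ (a : G) = b * u := fun a b e => by
    rcases mN _ (QuotientGroup.eq.1 e.symm) with e | e
    · left; exact (inv_mul_eq_one.1 e).symm
    · right; exact (inv_mul_eq_iff_eq_mul.1 e)
  have fu : f u' = 1 := (QuotientGroup.eq_one_iff _).2 (mem_zpowers _)
  let z' : C := ⟨z, zC⟩
  let H := (M.subgroupOf C).map f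
  have mH : ∀ a : C, f a ∈ H → (a : G) ∈ M := by
    rintro a ⟨b, hb, e⟩
    rcases fe _ _ e.symm with e | e
    · rw [e]; exact hb
    · rw [e]; exact mul_mem hb (mul_mem h.zM (h.DM ht))
  have u1 : u ≠ 1 := fun e => tz (by rw [← inv_of_sq h.z2]; exact eq_inv_of_mul_eq_one_right e)
  have fz : orderOf (f z') = 2 := by
    refine orderOf_eq_two' (by rw [← map_mul, show z' * z' = 1 from Subtype.ext h.z2, map_one]) ?_
    intro e
    rcases fe z' 1 (by rw [e, map_one]) with e | e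
    · exact h.z1 e
    · have e' : z = z * t := (show z = 1 * (z * t) from e).trans (one_mul _)
      exact ic_ne h.z1 (h.ic ht) (by simpa using e')
  have hi : IsIsolated (f z') := fun g hc => by
    obtain ⟨g, rfl⟩ := fs g
    have dM : (g : G) * z * (g : G)⁻¹ ∈ M := by
      refine h.blk h.zD ?_
      rcases fe ((g * z' * g⁻¹) * z' * (g * z' * g⁻¹)⁻¹) z' (by
        simp only [map_mul, map_inv] at hc ⊢
        rw [← hc.eq, mul_inv_cancel_right]) with e | e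
      · have e' : (g : G) * z * (g : G)⁻¹ * z * ((g : G) * z * (g : G)⁻¹)⁻¹ = z := e
        rw [e']; exact h.zD
      · have e' : (g : G) * z * (g : G)⁻¹ * z * ((g : G) * z * (g : G)⁻¹)⁻¹ = z * (z * t) := e
        rw [e', ← mul_assoc, h.z2, one_mul]; exact ht
    have gM := h.blk h.zD (h.inM (isConj_iff.2 ⟨_, rfl⟩) dM)
    rcases h.hA t ht tz c g gM (mC.1 g.2) with e | e
    · rw [← map_inv, ← map_mul, ← map_mul, show g * z' * g⁻¹ = z' from Subtype.ext e]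
    · rw [← map_inv, ← map_mul, ← map_mul, show g * z' * g⁻¹ = z' * u' from Subtype.ext
        (e.trans (show t = z * (z * t) by rw [← mul_assoc, h.z2, one_mul])), map_mul, fu, mul_one]
  have zs := L.zstar' fz hi
  have hK := coprime_card_pPrimeCore 2 (C ⧸ N)
  have key : ∀ a : C, (a : G) ∈ D → pPrimeCore 2 (C ⧸ N) ⊓ centralizer {f a} ≤ H := by
    intro a ha k ⟨hk, hc⟩
    obtain ⟨k, rfl⟩ := fs k
    have hc' := mem_centralizer_singleton_iff.1 hc
    have k2 : f (k * k) ∈ H := by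
      refine mem_map_of_mem _ (h.cen ha ?_)
      have ku := mC.1 k.2
      rcases fe (k * a) (a * k) (by simpa using hc') with e | e
      · have e' : Commute (k : G) a := e
        exact e'.mul_left e'
      · have e' : (k : G) * a = a * k * u := e
        show (k : G) * k * a = a * (k * k)
        calc (k : G) * k * a = k * (k * a) := by group
          _ = k * (a * k * u) := by rw [e']
          _ = (k * a) * (k * u) := by group
          _ = a * k * (u * k) * u := by rw [e']; group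
          _ = a * k * k * (u * u) := by rw [← ku.eq]; group
          _ = _ := by rw [u2]; group
    have od : Odd (orderOf (f k)) :=
      Nat.coprime_two_right.1 (Nat.Coprime.coprime_dvd_left (orderOf_dvd_natCard _ hk) hK)
    obtain ⟨j, hj⟩ := od
    have : f k = f (k * k) ^ (j + 1) := by
      rw [map_mul, ← pow_two, ← pow_mul, show 2 * (j + 1) = orderOf (f k) + 1 by omega, pow_succ,
        pow_orderOf_eq_one, one_mul]
    rw [this]; exact pow_mem k2 _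
  obtain ⟨a, ha, b, hb, d, hd, ab, ad, bd, e⟩ := h.hB t ht tz c
  have aC : a ∈ C := mC.2 (by
    rw [hu, ← e]; exact ((Commute.refl a).mul_right ab).mul_right ad)
  have bC : b ∈ C := mC.2 (by
    rw [hu, ← e]; exact (ab.symm.mul_right (Commute.refl b)).mul_right bd)
  have dC : d ∈ C := mC.2 (by
    rw [hu, ← e]; exact (ad.symm.mul_right bd.symm).mul_right (Commute.refl d))
  have KH : pPrimeCore 2 (C ⧸ N) ≤ H := by
    refine le4 (a := f ⟨a, aC⟩) (b := f ⟨b, bC⟩) ?_ ?_ ?_ hK (key _ ha) (key _ hb) ?_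
    · rw [← map_mul, show (⟨a, aC⟩ * ⟨a, aC⟩ : C) = 1 from Subtype.ext (h.sq ha), map_one]
    · rw [← map_mul, show (⟨b, bC⟩ * ⟨b, bC⟩ : C) = 1 from Subtype.ext (h.sq hb), map_one]
    · rw [← map_mul, ← map_mul]; exact congrArg f (Subtype.ext ab.eq)
    · have : f ⟨a, aC⟩ * f ⟨b, bC⟩ = f ⟨d, dC⟩ := by
        rw [← map_mul, show (⟨a, aC⟩ * ⟨b, bC⟩ : C) = u' * ⟨d, dC⟩ from Subtype.ext (by
          show a * b = u * d
          rw [hu, ← e, mul_assoc _ d, h.sq hd, mul_one]), map_mul, fu, one_mul]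
      rw [this]; exact key _ hd
  have := mH (⟨x, mC.2 hx⟩ * z' * (⟨x, mC.2 hx⟩ : C)⁻¹ * z'⁻¹) (by
    simpa only [map_mul, map_inv] using KH (zs (f ⟨x, mC.2 hx⟩)))
  have dM : x * z * x⁻¹ ∈ M := by
    have e' : x * z * x⁻¹ * z⁻¹ ∈ M := this
    simpa using mul_mem e' h.zM
  exact h.blk h.zD (h.inM (isConj_iff.2 ⟨_, rfl⟩) dM)

theorem cc {d t : G} (hd : d ∈ D) (ht : t ∈ D) (td : t ≠ d) (c : Commute t d) {x : G}
    (hx : Commute x (d * t)) : x ∈ M := by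
  obtain ⟨m, hm, rfl⟩ := (h.hD d).1 hd
  have := h.cc0 (t := m⁻¹ * t * m⁻¹⁻¹) (h.cj ht (inv_mem hm)) (fun e => td (by rw [← e]; group))
    (by have := c.map (MulAut.conj m⁻¹)
        simp only [MulAut.conj_apply] at this
        convert this using 1; group) (x := m⁻¹ * x * m⁻¹⁻¹)
    (by have := hx.map (MulAut.conj m⁻¹)
        simp only [MulAut.conj_apply] at this
        convert this using 1; group)
  simpa [mul_assoc] using mul_mem (mul_mem hm this) (inv_mem hm)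

theorem odd {a b : G} (ha : a ∈ D) (hb : IsConj z b) (hn : b ∉ D) : Odd (orderOf (a * b)) := by
  by_contra ho
  obtain ⟨u, u2, u1, au, bu, e, -⟩ := dih_even (h.sq ha) (ic_sq h.z2 hb) ho
  have c : Commute (a * u) a := (Commute.refl a).mul_left au.symm
  have auD : a * u ∈ D := h.fus ha (e.elim (h.ic ha).trans hb.trans) c
  refine hn (h.inM hb (h.cc ha auD (by simpa using u1) c ?_))
  rwa [← mul_assoc, h.sq ha, one_mul]

section Swap

variable {g : G} (hg : g ∉ M)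
include hg

theorem xinv {m : G} (hm : IsConj z m) : m * g ∈ M ↔ g⁻¹ * m ∈ M := by
  rw [← inv_mem_iff, mul_inv_rev, inv_of_sq (ic_sq h.z2 hm)]

theorem noC {m m' : G} (h1 : IsConj z m) (h2 : m * g ∈ M) (h3 : IsConj z m') (h4 : m' * g ∈ M)
    (c : Commute m' m) : m' = m := by
  by_contra ne
  have uM : m * m' ∈ M := by simpa [mul_assoc] using mul_mem h2 ((h.xinv hg h3).1 h4)
  have u2 : m * m' * (m * m') = 1 := by
    calc m * m' * (m * m') = m * (m' * m) * m' := by group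
      _ = (m * m) * (m' * m') := by rw [c.eq]; group
      _ = 1 := by rw [ic_sq h.z2 h1, ic_sq h.z2 h3, one_mul]
  obtain ⟨a, ha, ca⟩ := h.fix uM u2
  obtain ⟨k, rfl⟩ := isConj_iff.1 h1
  have cj : ∀ y : G, IsConj z y → IsConj z (k⁻¹ * y * k⁻¹⁻¹) := fun y hy =>
    hy.trans (isConj_iff.2 ⟨_, rfl⟩)
  have c' : Commute (k⁻¹ * m' * k⁻¹⁻¹) z := by
    have := c.map (MulAut.conj k⁻¹)
    simp only [MulAut.conj_apply] at this
    convert this using 1; group
  have aM := h.cc h.zD (h.fus h.zD (cj _ h3) c') (fun e => ne (by rw [← e]; group)) c'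
    (x := k⁻¹ * a * k⁻¹⁻¹) (by
      have := ca.symm.map (MulAut.conj k⁻¹)
      simp only [MulAut.conj_apply] at this
      convert this using 1; group)
  have kM : k⁻¹ ∈ M := h.blk ha (h.inM (cj _ (h.ic ha)) aM)
  have : k * z * k⁻¹ ∈ M := mul_mem (mul_mem (inv_mem_iff.1 kM) h.zM) kM
  exact hg ((M.mul_mem_cancel_left this).1 h2)

theorem xinj {a m m' : G} (ha : a ∈ D) (h1 : IsConj z m) (h2 : m * g ∈ M) (h3 : IsConj z m')
    (h4 : m' * g ∈ M) (e : m * a * m⁻¹ = m' * a * m'⁻¹) : m = m' := by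
  have hb : IsConj z (m * a * m⁻¹) := (h.ic ha).trans (isConj_iff.2 ⟨_, rfl⟩)
  have hn : m * a * m⁻¹ ∉ D := fun e => hg ((M.mul_mem_cancel_left (h.blk ha e)).1 h2)
  obtain ⟨μ, c1, c2, c3⟩ := dih_odd (h.sq ha) (ic_sq h.z2 hb) (h.odd ha hb hn)
  have μ1 := (h.ic ha).trans c1
  have μ2 : μ * g ∈ M := by
    have : m⁻¹ * μ ∈ M := h.cen ha (mul_inv_eq_iff_eq_mul.1 (by
      calc m⁻¹ * μ * a * (m⁻¹ * μ)⁻¹ = m⁻¹ * (μ * a * μ⁻¹) * m := by group
        _ = a := by rw [c2]; group))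
    exact (h.xinv hg μ1).2 (by simpa [mul_assoc] using mul_mem ((h.xinv hg h1).1 h2) this)
  have bk : ∀ y : G, IsConj z y → y * (y * a * y⁻¹) * y⁻¹ = a := fun y hy => by
    calc y * (y * a * y⁻¹) * y⁻¹ = (y * y) * a * (y * y)⁻¹ := by group
      _ = a := by rw [ic_sq h.z2 hy]; group
  rw [h.noC hg μ1 μ2 h1 h2 (c3 m rfl (bk m h1)),
    h.noC hg μ1 μ2 h3 h4 (c3 m' e.symm (by rw [e]; exact bk m' h3))]

theorem xsurj {d : G} (hd : d ∈ D) :
    ∃ m, IsConj z m ∧ m * g ∈ M ∧ g⁻¹ * m * z * (g⁻¹ * m)⁻¹ = d := by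
  have hb : IsConj z (g * d * g⁻¹) := (h.ic hd).trans (isConj_iff.2 ⟨_, rfl⟩)
  obtain ⟨μ, c1, c2, -⟩ := dih_odd h.z2 (ic_sq h.z2 hb) (h.odd h.zD hb fun e => hg (h.blk hd e))
  have e : g⁻¹ * μ * z * (g⁻¹ * μ)⁻¹ = d := by
    calc g⁻¹ * μ * z * (g⁻¹ * μ)⁻¹ = g⁻¹ * (μ * z * μ⁻¹) * g := by group
      _ = d := by rw [c2]; group
  exact ⟨μ, c1, (h.xinv hg c1).2 (h.blk h.zD (e ▸ hd)), e⟩

theorem xcard : Nat.card {m // IsConj z m ∧ m * g ∈ M} = D.ncard := by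
  rw [← Nat.card_coe_set_eq]
  refine Nat.card_eq_of_bijective (fun m => ⟨g⁻¹ * m.1 * z * (g⁻¹ * m.1)⁻¹,
    h.cj h.zD ((h.xinv hg m.2.1).1 m.2.2)⟩) ⟨fun m m' e => Subtype.ext ?_, fun d => ?_⟩
  · refine h.xinj hg h.zD m.2.1 m.2.2 m'.2.1 m'.2.2 ?_
    have e' : g⁻¹ * m.1 * z * (g⁻¹ * m.1)⁻¹ = g⁻¹ * m'.1 * z * (g⁻¹ * m'.1)⁻¹ :=
      congrArg Subtype.val e
    calc m.1 * z * m.1⁻¹ = g * (g⁻¹ * m.1 * z * (g⁻¹ * m.1)⁻¹) * g⁻¹ := by group
      _ = _ := by rw [e']; group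
  · obtain ⟨m, m1, m2, e⟩ := h.xsurj hg d.2
    exact ⟨⟨m, m1, m2⟩, Subtype.ext e⟩

theorem xodd {m m' : G} (h1 : IsConj z m) (h2 : m * g ∈ M) (h3 : IsConj z m') (h4 : m' * g ∈ M) :
    Odd (orderOf (m * m')) := by
  by_contra ho
  obtain ⟨u, u2, u1, au, bu, e, hu⟩ := dih_even (ic_sq h.z2 h1) (ic_sq h.z2 h3) ho
  have uM : u ∈ M := zpowers_le.2 (show m * m' ∈ M by
    simpa [mul_assoc] using mul_mem h2 ((h.xinv hg h3).1 h4)) hu
  have := h.noC hg h1 h2 (e.elim h1.trans h3.trans) (by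
    rw [au.eq, mul_assoc]; exact mul_mem uM h2) ((Commute.refl m).mul_left au.symm)
  exact u1 (by simpa using this)

/-- the swapping involutions form one class under an odd order group -/
theorem xmain : ∃ (m0 : G) (O : Subgroup G), IsConj z m0 ∧ m0 * g ∈ M ∧
    (Nat.card O).Coprime 2 ∧ m0 ∈ normalizer (O : Set G) ∧
    ∀ m, MT.Cj O m0 m ↔ IsConj z m ∧ m * g ∈ M := by
  obtain ⟨m0, m1, m2, -⟩ := h.xsurj hg h.zD
  let L := closure {m | IsConj z m ∧ m * g ∈ M}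
  have mL : ∀ m, IsConj z m → m * g ∈ M → m ∈ L := fun m a b => subset_closure ⟨a, b⟩
  have cl : ∀ x ∈ L, ∀ m, IsConj z m → m * g ∈ M → x * m * x⁻¹ * g ∈ M := by
    intro x hx
    refine closure_induction_left (p := fun x _ => ∀ m, IsConj z m → m * g ∈ M →
      x * m * x⁻¹ * g ∈ M) (by simp) ?_ ?_ hx
    · rintro y ⟨y1, y2⟩ x - ih m a b
      have := mul_mem (mul_mem y2 ((h.xinv hg (a.trans (isConj_iff.2 ⟨x, rfl⟩))).1 (ih m a b))) y2
      rw [mul_inv_rev, inv_of_sq (ic_sq h.z2 y1)]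
      simpa [mul_assoc] using this
    · rintro y ⟨y1, y2⟩ x - ih m a b
      have := mul_mem (mul_mem y2 ((h.xinv hg (a.trans (isConj_iff.2 ⟨x, rfl⟩))).1 (ih m a b))) y2
      rw [mul_inv_rev, inv_inv, inv_of_sq (ic_sq h.z2 y1)]
      simpa [mul_assoc] using this
  have hi : IsIsolated (⟨m0, mL _ m1 m2⟩ : L) := fun x hc => Subtype.ext
    (h.noC hg m1 m2 (m1.trans (isConj_iff.2 ⟨(x : G), rfl⟩)) (cl x x.2 _ m1 m2)
      (congrArg Subtype.val hc.symm.eq))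
  have zs := _root_.L.zstar' (by rw [← orderOf_coe]; exact orderOf_eq_two' (ic_sq h.z2 m1) (ic_ne h.z1 m1)) hi
  refine ⟨m0, pPrimeCoreIn 2 L, m1, m2, coprime_card_pPrimeCoreIn 2 L,
    le_normalizer_pPrimeCoreIn 2 L (mL _ m1 m2), fun m => ⟨?_, fun ⟨a, b⟩ => ?_⟩⟩
  · rintro ⟨x, hx, rfl⟩
    exact ⟨m1.trans (isConj_iff.2 ⟨x, rfl⟩), cl x (pPrimeCoreIn_le 2 L hx) _ m1 m2⟩
  · have i0 := inv_of_sq (ic_sq h.z2 m1)
    obtain ⟨x, hx, e⟩ := H9.exists_conj_eq_mul (a := m0) (u := m * m0) (h.xodd hg a b m1 m2)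
      (by rw [mul_inv_rev, i0, inv_of_sq (ic_sq h.z2 a), mul_assoc, mul_assoc, ic_sq h.z2 m1,
        mul_one]) (mem_zpowers _)
    rw [mul_assoc m, ic_sq h.z2 m1, mul_one] at e
    have xL : x ∈ L := zpowers_le.2 (mul_mem (mL _ a b) (mL _ m1 m2)) hx
    have : m * m0 ∈ pPrimeCoreIn 2 L := by
      have := mem_map_of_mem L.subtype (zs ⟨x, xL⟩)
      have e' : x * m0 * x⁻¹ * m0⁻¹ ∈ pPrimeCoreIn 2 L := this
      rwa [e, i0] at e'
    exact ⟨x, zpowers_le.2 this hx, e⟩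

/-- for each prime `p` dividing `|D|` there is an element of order `p` of `M` fixing no element
of `D` -/
theorem xfpf {p : ℕ} (hp : p.Prime) (hd : p ∣ D.ncard) :
    ∃ y ∈ M, orderOf y = p ∧ ∀ d ∈ D, ¬ Commute y d := by
  have : Fact p.Prime := ⟨hp⟩
  have : Fact (Nat.Prime 2) := ⟨Nat.prime_two⟩
  obtain ⟨m0, O, m1, m2, hO, hn, hX⟩ := h.xmain hg
  have s0 := ic_sq h.z2 m1
  have o0 : orderOf m0 = 2 := orderOf_eq_two' s0 (ic_ne h.z1 m1)
  have hc := MT.card_cj O m0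
  rw [Nat.card_congr (Equiv.subtypeEquivRight hX), h.xcard hg] at hc
  obtain ⟨P, hP, hA⟩ := exists_invariant_isSylowOf p (A := zpowers m0) (K := O) (zpowers_le.2 hn)
    (by rw [Nat.card_zpowers, o0]; exact hO.symm)
    (Or.inl (isSolvable_of_isPGroup (p := 2) (IsPGroup.of_card (n := 1) (by
      rw [Nat.card_zpowers, o0, pow_one]))))
  have : ¬ P ≤ centralizer {m0} := fun hc' => by
    refine hP.not_dvd (hd.trans ?_)
    rw [← relIndex_mul_relIndex P (O ⊓ FT.Cen1 m0) O (le_inf hP.le hc') inf_le_left]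
    refine Dvd.dvd.mul_left ⟨1, ?_⟩ _
    have e := (O ⊓ FT.Cen1 m0).subgroupOf O |>.index_mul_card
    rw [Nat.card_congr (subgroupOfEquivOfLe inf_le_left).toEquiv, ← hc] at e
    rw [mul_one]
    exact Nat.eq_of_mul_eq_mul_right Nat.card_pos e
  obtain ⟨y, yP, yc⟩ := SetLike.not_le_iff_exists.1 this
  let w := y * (m0 * y⁻¹ * m0⁻¹)
  have wP : w ∈ P := mul_mem yP ((mem_normalizer_iff.1 (hA (mem_zpowers _)) _).1 (inv_mem yP))
  have w1 : w ≠ 1 := fun e => yc (mem_centralizer_singleton_iff.2 (by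
    calc y * m0 = y * (m0 * y⁻¹ * m0⁻¹) * m0 * y := by group
      _ = m0 * y := by rw [show y * (m0 * y⁻¹ * m0⁻¹) = 1 from e, one_mul]))
  have wi : m0 * w * m0⁻¹ = w⁻¹ := by
    calc m0 * (y * (m0 * y⁻¹ * m0⁻¹)) * m0⁻¹ = m0 * y * m0 * y⁻¹ * (m0 * m0)⁻¹ := by group
      _ = m0 * y * m0⁻¹ * y⁻¹ := by rw [s0, inv_of_sq s0]; group
      _ = _ := by simp only [w]; group
  obtain ⟨k, hk⟩ := (IsPGroup.iff_orderOf.1 hP.isPGroup) ⟨w, wP⟩
  rw [← orderOf_coe] at hk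
  have pd : p ∣ orderOf w := by
    rcases k with _ | k
    · exact absurd (orderOf_eq_one_iff.1 (by simpa using hk)) w1
    · rw [show orderOf w = _ from hk]; exact dvd_pow_self _ (by omega)
  have oy : orderOf (w ^ (orderOf w / p)) = p := orderOf_pow_orderOf_div (orderOf_pos w).ne' pd
  have yz := npow_mem_zpowers w (orderOf w / p)
  generalize w ^ (orderOf w / p) = v at oy yz
  have wo : Odd (orderOf w) :=
    Nat.coprime_two_right.1 (Nat.Coprime.coprime_dvd_left (orderOf_dvd_natCard _ (hP.le wP)) hO)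
  obtain ⟨x, hx, e⟩ := H9.exists_conj_eq_mul wo wi yz
  obtain ⟨a, b⟩ := (hX (v * m0)).1 ⟨x, zpowers_le.2 (hP.le wP) hx, e⟩
  have vi := H9.conj_inv_of_mem_zpowers wi yz
  refine ⟨v, by simpa [mul_assoc, s0] using mul_mem b ((h.xinv hg m1).1 m2), oy, fun d hd c => ?_⟩
  have := h.xinj hg hd a b m1 m2 (by
    have e1 : v * m0 = m0 * v⁻¹ := by
      calc v * m0 = m0⁻¹ * (m0 * v * m0⁻¹) * (m0 * m0) := by group
        _ = _ := by rw [vi, s0, inv_of_sq s0, mul_one]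
    rw [e1]
    calc m0 * v⁻¹ * d * (m0 * v⁻¹)⁻¹ = m0 * v⁻¹ * (d * v) * m0⁻¹ := by group
      _ = _ := by rw [← c.eq]; group)
  have v1 : v = 1 := by simpa using this
  rw [v1, orderOf_one] at oy
  exact hp.one_lt.ne oy

end Swap

end EG

theorem endgame {G : Type*} [Group G] [Finite G] (z : G) (hz : orderOf z = 2) (M : Subgroup G)
    (D : Set G) (hD : ∀ d, d ∈ D ↔ ∃ m ∈ M, m * z * m⁻¹ = d) (hC : centralizer {z} ≤ M)
    (hF : ∀ g, Commute (g * z * g⁻¹) z → g * z * g⁻¹ ∈ D) (hodd : Odd D.ncard) (h3 : 3 ∣ D.ncard)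
    (hA : ∀ t ∈ D, t ≠ z → Commute t z → ∀ m ∈ M, Commute m (z * t) →
      m * z * m⁻¹ = z ∨ m * z * m⁻¹ = t)
    (hB : ∀ t ∈ D, t ≠ z → Commute t z → ∃ a ∈ D, ∃ b ∈ D, ∃ d ∈ D,
      Commute a b ∧ Commute a d ∧ Commute b d ∧ a * b * d = z * t)
    (hT : ∀ m ∈ M, m ^ 3 = 1 → ∃ d ∈ D, Commute m d) : M = ⊤ := by
  by_contra hn
  obtain ⟨g, -, hg⟩ := SetLike.not_le_iff_exists.1 (fun e => hn (top_le_iff.1 e))
  obtain ⟨y, hy, o, c⟩ := (EG.mk hz hD hC hF hodd hA hB).xfpf hg Nat.prime_three h3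
  obtain ⟨d, hd, e⟩ := hT y hy (o ▸ pow_orderOf_eq_one y)
  exact c d hd e

end U6
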