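import Cfsg.Agent.U6.Id2
import Cfsg.Agent.U6.End
import Cfsg.Agent.Ly.Model

/-! A class of involutions whose commuting graph is the unitary polar space generates `U₆(2)`. -/

set_option autoImplicit false
set_option linter.unusedVariables false
set_option linter.unusedSectionVars false

namespace U6.Id

open Subgroup Cfsg

/-- `SU₆(2)` as a group of linear maps -/
noncomputable def S : Subgroup A := U ⊓ (LinearEquiv.det : A →* K4ˣ).ker

theorem T_le_S (s : Finset (Fin 6)) : T s ≤ S := fun g hg => ⟨T_le s hg, T_det hg⟩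
theorem S_eq : S = T Finset.univ := le_antisymm (fun g hg => genT6 hg.1 hg.2) (T_le_S _)

theorem su_equiv : Nonempty (SU 6 K4 2 ≃* S) := by
  let f : SU 6 K4 2 →* A := Matrix.SpecialLinearGroup.toLin'.comp (SU 6 K4 2).subtype
  have inj : Function.Injective f :=
    Matrix.SpecialLinearGroup.toLin'_injective.comp Subtype.val_injective
  have : f.range = S := by
    ext g
    constructor
    · rintro ⟨M, rfl⟩
      refine ⟨fun u v => M.2 u v, Units.ext ?_⟩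
      rw [LinearEquiv.coe_det, show ((f M : A) : W →ₗ[K4] W) = Matrix.toLin' M.1.1 from rfl,
        LinearMap.det_toLin', M.1.2]; rfl
    · rintro ⟨a, b⟩
      have d : (LinearMap.toMatrix' (g : W →ₗ[K4] W)).det = 1 := by
        rw [LinearMap.det_toMatrix', ← LinearEquiv.coe_det, show LinearEquiv.det g = 1 from b]; rfl
      refine ⟨⟨⟨_, d⟩, fun u v => ?_⟩, LinearEquiv.ext fun x => ?_⟩
      · show h (Matrix.mulVec (LinearMap.toMatrix' (g : W →ₗ[K4] W)) u)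
          (Matrix.mulVec (LinearMap.toMatrix' (g : W →ₗ[K4] W)) v) = h u v
        rw [LinearMap.toMatrix'_mulVec, LinearMap.toMatrix'_mulVec]
        exact a u v
      · show Matrix.toLin' (LinearMap.toMatrix' (g : W →ₗ[K4] W)) x = g x
        rw [Matrix.toLin'_toMatrix']; rfl
  exact ⟨(MonoidHom.ofInjective inj).trans (MulEquiv.subgroupCongr this)⟩

theorem tr_mem {p : W} {g : A} (hp : h p p = 0) (t : Tr 1 p g) : g ∈ S :=
  S_eq ▸ subset_closure ⟨p, fun i hi => absurd (Finset.mem_univ i) hi, hp, t⟩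

theorem tr_pt {p q : W} {g : A} (t : Tr 1 p g) (s : Tr 1 q g) (p0 : p ≠ 0) : ∃ c : K4, p = c • q := by
  obtain ⟨x, hx⟩ := ex1 p0
  have := (t x).symm.trans (s x)
  rw [hx, add_right_inj, mul_one, one_smul] at this
  exact ⟨_, this⟩

theorem scal_mem {l : K4} (l0 : l ≠ 0) : ∃ g ∈ S, ∀ x, g x = l • x := by
  refine ⟨LinearEquiv.smulOfNeZero K4 W l l0, ⟨fun u v => ?_, Units.ext ?_⟩, fun x => rfl⟩
  · show h (l • u) (l • v) = _
    rw [hsl, hsr]; linear_combination (h u v) * cube l l0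
  · rw [LinearEquiv.coe_det, show ((LinearEquiv.smulOfNeZero K4 W l l0 : A) : W →ₗ[K4] W) =
      l • LinearMap.id from LinearMap.ext fun x => rfl, LinearMap.det_smul]
    simp only [Module.finrank_fin_fun, LinearMap.det_id, mul_one]
    rw [show 6 = 3 * 2 from rfl, pow_mul, cube l l0, one_pow]; rfl

variable {G : Type*} [Group G] [Finite G]

structure Gm (z : G) (pt : W → G) (p0 : W) : Prop where
  z2 : orderOf z = 2
  i0 : Is p0
  cnj : ∀ {x}, Is x → IsConj z (pt x)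
  eq : ∀ {x y}, Is x → Is y → (pt x = pt y ↔ ∃ c : K4, y = c • x)
  cm : ∀ {x y}, Is x → Is y → (Commute (pt x) (pt y) ↔ h x y = 0)
  cl : ∀ {x d}, Is x → IsConj z d → Commute d (pt x) → ∃ y, Is y ∧ pt y = d
  zz : pt p0 = z
  fa : ∀ g, (∀ x, Is x → Commute g (pt x)) → g = 1

def DD (pt : W → G) : Set G := pt '' {x | Is x}

def Ω (pt : W → G) : Subgroup (G × A) where
  carrier := {t | t.2 ∈ U ∧ ∀ p, Is p → t.1 * pt p * t.1⁻¹ = pt (t.2 p)}
  mul_mem' {a b} ha hb := ⟨mul_mem ha.1 hb.1, fun p hp => by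
    show a.1 * b.1 * pt p * (a.1 * b.1)⁻¹ = pt (a.2 (b.2 p))
    rw [← ha.2 _ (hp.map hb.1), ← hb.2 p hp]; group⟩
  one_mem' := ⟨one_mem _, fun p hp => by simp⟩
  inv_mem' {a} ha := ⟨inv_mem ha.1, fun p hp => by
    have := ha.2 _ (hp.map (inv_mem ha.1))
    have e : a.2 (a.2⁻¹ p) = p := by simp
    rw [e] at this
    show a.1⁻¹ * pt p * a.1⁻¹⁻¹ = pt (a.2⁻¹ p)
    rw [← this]; group⟩

theorem cmap {a b : G} (c : Commute a b) (g : G) : Commute (g * a * g⁻¹) (g * b * g⁻¹) := by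
  simpa only [MulAut.conj_apply] using c.map (MulAut.conj g)

namespace Gm

variable {z : G} {pt : W → G} {p0 : W} (Γ : Gm z pt p0)
include Γ

theorem zs : z * z = 1 := H4.mul_self_eq_one_of_orderOf Γ.z2
theorem sq {x : W} (hx : Is x) : pt x * pt x = 1 := ic_sq Γ.zs (Γ.cnj hx)
theorem sm {x : W} (hx : Is x) {c : K4} (hc : c ≠ 0) : pt (c • x) = pt x :=
  ((Γ.eq hx (hx.smul hc)).2 ⟨c, rfl⟩).symm
theorem zD : z ∈ DD pt := ⟨p0, Γ.i0, Γ.zz⟩
theorem icD {d : G} (hd : d ∈ DD pt) : IsConj z d := by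
  obtain ⟨x, hx, rfl⟩ := hd; exact Γ.cnj hx
theorem clD {d e : G} (hd : d ∈ DD pt) (he : IsConj z e) (c : Commute e d) : e ∈ DD pt := by
  obtain ⟨x, hx, rfl⟩ := hd; exact Γ.cl hx he c

theorem blk {g d e : G} (hd : d ∈ DD pt) (hg : g * d * g⁻¹ ∈ DD pt) (he : e ∈ DD pt) :
    g * e * g⁻¹ ∈ DD pt := by
  obtain ⟨x, hx, rfl⟩ := hd
  obtain ⟨y, hy, rfl⟩ := he
  obtain ⟨f, hf, f1, f2⟩ := perp2 hx hy
  have c : ∀ {w}, Is w → IsConj z (g * pt w * g⁻¹) := fun hw =>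
    (Γ.cnj hw).trans (isConj_iff.2 ⟨g, rfl⟩)
  exact Γ.clD (Γ.clD hg (c hf) (cmap ((Γ.cm hf hx).2 f1) g)) (c hy)
    (cmap ((Γ.cm hf hy).2 f2).symm g)

theorem nor {g d : G} (hd : d ∈ DD pt) (hg : g * d * g⁻¹ ∈ DD pt) : g ∈ normalizer (DD pt) :=
  mem_normalizer_fintype fun e he => Γ.blk hd hg he

theorem third {p q : W} (hp : Is p) (hq : Is q) (pq : h p q = 1) :
    pt p * pt q * (pt p)⁻¹ = pt (p + q) := by
  have nc : ¬ Commute (pt p) (pt q) := fun c => by simpa [pq] using (Γ.cm hp hq).1 c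
  obtain ⟨r, hr, e⟩ := Γ.blk (g := pt p) ⟨p, hp, rfl⟩ (by simpa using ⟨p, hp, rfl⟩) ⟨q, hq, rfl⟩
  have sp := span4 hp.2 hq.2 pq (r := r) fun y y0 y1 y2 => by
    by_cases y' : y = 0; · simp [y']
    have hy : Is y := ⟨y', y0⟩
    refine (Γ.cm hy hr).1 ?_
    rw [e]
    exact (((Γ.cm hy hp).2 y1).mul_right ((Γ.cm hy hq).2 y2)).mul_right ((Γ.cm hy hp).2 y1).inv_right
  have a0 : h r q ≠ 0 := fun a0 => by
    rw [a0, zero_smul, zero_add] at sp
    have := (Γ.eq hq hr).2 ⟨_, sp⟩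
    rw [e] at this
    exact nc (mul_inv_eq_iff_eq_mul.1 this.symm)
  have b0 : h r p ≠ 0 := fun b0 => by
    rw [b0, zero_smul, add_zero] at sp
    have := (Γ.eq hp hr).2 ⟨_, sp⟩
    rw [e] at this
    have e' : pt q = pt p := by simpa using (mul_inv_eq_iff_eq_mul.1 this.symm)
    exact nc (e' ▸ Commute.refl _)
  have rr := hr.2
  generalize h r q = a at *
  generalize h r p = b at *
  rw [sp] at rr
  simp only [hal, har, hsl, hsr, hp.2, hq.2, pq, ho pq, mul_zero, mul_one, add_zero, zero_add] at rr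
  have k : ∀ a b : K4, a ≠ 0 → b ≠ 0 → b ^ 2 * a + a ^ 2 * b = 0 → a = b := by decide +kernel
  obtain rfl := k a b a0 b0 (by linear_combination rr)
  rw [← e, sp, ← smul_add, Γ.sm (is_of (q := q) (by simp [hp.2, hq.2, pq, ho pq, aa])
    (by simp [pq, hq.2])) a0]

theorem gen {p : W} {g : A} (hp : Is p) (t : Tr 1 p g) : (pt p, g) ∈ Ω pt := by
  refine ⟨t.U (cd1 hp.2), fun q hq => ?_⟩
  show pt p * pt q * (pt p)⁻¹ = pt (g q)
  by_cases e : h p q = 0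
  · rw [t.fix (hz e), ((Γ.cm hp hq).2 e).eq, mul_inv_cancel_right]
  rw [← Γ.sm hq e, Γ.third hp (hq.smul e) (nrm e), ← Γ.sm (hq.map (t.U (cd1 hp.2))) e, ← map_smul,
    t, ho (nrm e), mul_one, one_smul, add_comm]

theorem lift1 {x : G} (hx : x ∈ closure (DD pt)) : ∃ g ∈ S, (x, g) ∈ Ω pt := by
  have : closure (DD pt) ≤ (Ω pt ⊓ S.comap (MonoidHom.snd G A)).map (MonoidHom.fst G A) := by
    refine (closure_le _).2 ?_
    rintro _ ⟨p, hp, rfl⟩
    obtain ⟨g, t⟩ := ex_tr (cd1 hp.2)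
    exact ⟨(pt p, g), ⟨Γ.gen hp t, tr_mem hp.2 t⟩, rfl⟩
  obtain ⟨⟨y, g⟩, ⟨a, b⟩, rfl⟩ := this hx
  exact ⟨g, b, a⟩

theorem lift2' {P : W → Prop} {E : Subgroup G} (hE : ∀ p, Is p → P p → pt p ∈ E) {g : A}
    (hg : g ∈ closure {g | ∃ p, P p ∧ h p p = 0 ∧ Tr 1 p g}) : ∃ x ∈ E, (x, g) ∈ Ω pt := by
  have : closure {g | ∃ p, P p ∧ h p p = 0 ∧ Tr 1 p g} ≤
      (Ω pt ⊓ E.comap (MonoidHom.fst G A)).map (MonoidHom.snd G A) := by
    refine (closure_le _).2 ?_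
    rintro g ⟨p, pp, hp, t⟩
    by_cases p0 : p = 0
    · rw [show g = 1 from LinearEquiv.ext fun x => by simp [t x, p0]]; exact one_mem _
    · exact ⟨(pt p, g), ⟨Γ.gen ⟨p0, hp⟩ t, hE p ⟨p0, hp⟩ pp⟩, rfl⟩
  obtain ⟨⟨y, g⟩, ⟨a, b⟩, rfl⟩ := this hg
  exact ⟨y, b, a⟩

theorem lift2 {g : A} (hg : g ∈ S) : ∃ x ∈ closure (DD pt), (x, g) ∈ Ω pt :=
  Γ.lift2' (fun p hp _ => Subgroup.subset_closure (show pt p ∈ DD pt from ⟨p, hp, rfl⟩))
    (S_eq ▸ hg : g ∈ T Finset.univ)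

theorem one_of {x : G} {g : A} (a : (x, g) ∈ Ω pt) (H : ∀ p, Is p → ∃ c : K4, g p = c • p) :
    x = 1 := Γ.fa x fun p hp => mul_inv_eq_iff_eq_mul.1
  ((a.2 p hp).trans ((Γ.eq hp (hp.map a.1)).2 (H p hp)).symm)

theorem of_one {g : A} (a : (1, g) ∈ Ω pt) : ∃ l : K4, ∀ x, g x = l • x :=
  scal fun p hp => (Γ.eq hp (hp.map a.1)).1 (by simpa using a.2 p hp)

theorem uniq {x y : G} {g : A} (a : (x, g) ∈ Ω pt) (b : (y, g) ∈ Ω pt) : x = y := by
  have := mul_mem (inv_mem b) a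
  rw [show ((y, g)⁻¹ * (x, g) : G × A) = (y⁻¹ * x, 1) by simp] at this
  exact (inv_mul_eq_one.1 (Γ.one_of this fun p _ => ⟨1, by simp⟩)).symm

theorem iso : Nonempty (closure (DD pt) ≃* S ⧸ center S) := by
  let O := Ω pt ⊓ (closure (DD pt)).prod S
  let f1 : O →* closure (DD pt) :=
    ((MonoidHom.fst G A).comp O.subtype).codRestrict _ fun t => t.2.2.1
  let f2 : O →* S := ((MonoidHom.snd G A).comp O.subtype).codRestrict _ fun t => t.2.2.2
  let f3 := (QuotientGroup.mk' (center S)).comp f2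
  have s1 : Function.Surjective f1 := fun x => by
    obtain ⟨g, hg, a⟩ := Γ.lift1 x.2
    exact ⟨⟨(x, g), a, x.2, hg⟩, rfl⟩
  have s3 : Function.Surjective f3 := (QuotientGroup.mk'_surjective _).comp fun g => by
    obtain ⟨x, hx, a⟩ := Γ.lift2 g.2
    exact ⟨⟨(x, g), a, hx, g.2⟩, rfl⟩
  have k : f1.ker = f3.ker := by
    ext ⟨⟨x, g⟩, a, hx, hg⟩
    simp only [MonoidHom.mem_ker, f3, MonoidHom.comp_apply, QuotientGroup.mk'_apply,
      QuotientGroup.eq_one_iff]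
    constructor
    · intro e
      obtain rfl : x = 1 := congrArg Subtype.val e
      obtain ⟨l, hl⟩ := Γ.of_one a
      refine mem_center_iff.2 fun k => Subtype.ext (LinearEquiv.ext fun y => ?_)
      show k.1 (g y) = g (k.1 y)
      rw [hl, hl, map_smul]
    · intro e
      refine Subtype.ext (Γ.one_of a fun p hp => ?_)
      obtain ⟨t, ht⟩ := ex_tr (cd1 hp.2)
      have c : t * g = g * t := congrArg Subtype.val (mem_center_iff.1 e ⟨t, tr_mem hp.2 ht⟩)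
      have := ht.conj a.1
      rw [show (x, g).2 = g from rfl, ← c, mul_inv_cancel_right] at this
      exact tr_pt this ht (hp.map a.1).1
  exact ⟨((QuotientGroup.quotientKerEquivOfSurjective f1 s1).symm.trans
    (QuotientGroup.quotientMulEquivOfEq k)).trans (QuotientGroup.quotientKerEquivOfSurjective f3 s3)⟩

theorem psu {K : Type*} [Field K] [Fintype K] (hK : Fintype.card K = 4) :
    Nonempty (closure (DD pt) ≃* PSU 6 K 2) := by
  obtain ⟨a⟩ := Γ.iso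
  obtain ⟨b⟩ := su_equiv
  obtain ⟨c⟩ := Ly.psu_congr (FiniteField.ringEquivOfCardEq (K := K4) (K' := K) (hK ▸ rfl)) 6 2
  exact ⟨(a.trans (H2.quotCenterCongr b).symm).trans c⟩

theorem ord3 {m : G} (hm : m ∈ closure (DD pt)) (m3 : m ^ 3 = 1) : ∃ d ∈ DD pt, Commute m d := by
  obtain ⟨g, hg, a⟩ := Γ.lift1 hm
  have := pow_mem a 3
  rw [Prod.pow_mk, m3] at this
  obtain ⟨l, hl⟩ := Γ.of_one this
  obtain ⟨p, hp, c, e⟩ := eig hg.2 (l := l) fun x => by rw [← hl, pow_three]; rfl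
  exact ⟨_, ⟨p, hp, rfl⟩, mul_inv_eq_iff_eq_mul.1
    ((a.2 p hp).trans ((Γ.eq hp (hp.map a.1)).2 ⟨c, e⟩).symm)⟩

theorem trans0 {p q : W} (hp : Is p) (hq : Is q) (e : h p q ≠ 0) :
    MT.Cj (closure (DD pt)) (pt p) (pt q) := by
  have hq' := hq.smul e
  have a := Γ.third hp hq' (nrm e)
  have b := Γ.third hq' hp (ho (nrm e))
  rw [add_comm, ← a, Γ.sm hq e] at b
  exact (MT.Cj.trans ⟨_, subset_closure ⟨q, hq, rfl⟩, b⟩
    (MT.Cj.symm ⟨_, subset_closure ⟨p, hp, rfl⟩, rfl⟩))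

theorem trans {d e : G} (hd : d ∈ DD pt) (he : e ∈ DD pt) : MT.Cj (closure (DD pt)) d e := by
  obtain ⟨p, hp, rfl⟩ := hd
  obtain ⟨q, hq, rfl⟩ := he
  by_cases pq : h p q = 0
  · obtain ⟨f, hf, a, b⟩ := nperp2 hp hq pq
    exact (Γ.trans0 hf hp a).symm.trans (Γ.trans0 hf hq b)
  · exact Γ.trans0 hp hq pq

theorem dec {g : G} (hg : g ∈ normalizer (DD pt)) :
    ∃ a ∈ closure (DD pt), ∃ k, Commute k z ∧ g = a * k := by
  obtain ⟨a, ha, e⟩ := Γ.trans Γ.zD ((mem_set_normalizer_iff.1 hg z).1 Γ.zD)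
  refine ⟨a, ha, a⁻¹ * g, mul_inv_eq_iff_eq_mul.1 ?_, by group⟩
  calc a⁻¹ * g * z * (a⁻¹ * g)⁻¹ = a⁻¹ * (g * z * g⁻¹) * a := by group
    _ = z := by rw [← e]; group

theorem hA {t : G} (ht : t ∈ DD pt) (tz : t ≠ z) (c : Commute t z) {m : G}
    (hm : m ∈ normalizer (DD pt)) (mc : Commute m (z * t)) :
    m * z * m⁻¹ = z ∨ m * z * m⁻¹ = t := by
  obtain ⟨u, hu, e1⟩ := (mem_set_normalizer_iff.1 hm z).1 Γ.zD
  obtain ⟨u', hu', e2⟩ := (mem_set_normalizer_iff.1 hm t).1 ht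
  obtain ⟨q, hq, rfl⟩ := ht
  have e : pt u * pt u' = pt p0 * pt q := by
    rw [e1, e2, Γ.zz]
    calc m * z * m⁻¹ * (m * pt q * m⁻¹) = m * (z * pt q) * m⁻¹ := by group
      _ = _ := by rw [mc.eq, mul_inv_cancel_right]
  have uu : h u u' = 0 := (Γ.cm hu hu').1 (by rw [e1, e2]; exact cmap c.symm m)
  have pq : h p0 q = 0 := (Γ.cm Γ.i0 hq).1 (by rw [Γ.zz]; exact c.symm)
  obtain ⟨a, ta⟩ := ex_tr (cd1 hu.2)
  obtain ⟨a', ta'⟩ := ex_tr (cd1 hu'.2)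
  obtain ⟨b, tb⟩ := ex_tr (cd1 Γ.i0.2)
  obtain ⟨b', tb'⟩ := ex_tr (cd1 hq.2)
  have := mul_mem (inv_mem (mul_mem (Γ.gen Γ.i0 tb) (Γ.gen hq tb')))
    (mul_mem (Γ.gen hu ta) (Γ.gen hu' ta'))
  rw [Prod.mk_mul_mk, Prod.mk_mul_mk, Prod.inv_mk, Prod.mk_mul_mk, e, inv_mul_cancel] at this
  obtain ⟨l, hl⟩ := Γ.of_one this
  have H : ∀ x, x + (h x u • u + h x u' • u') = l • (x + (h x p0 • p0 + h x q • q)) := fun x => by
    have e1 : (b * b') (((b * b')⁻¹ * (a * a')) x) = a (a' x) := by simp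
    rw [hl, map_smul, LinearEquiv.mul_apply, tb, tb', ta, ta'] at e1
    simp only [hal, hsl, hz uu, hz pq, one_mul, mul_zero, add_zero] at e1
    rw [add_comm (h x u • u), add_comm (h x p0 • p0), ← add_assoc, ← add_assoc, e1]
  have l1 : l = 1 := by
    have a1 := H u
    rw [hu.2, uu, zero_smul, zero_smul, add_zero, add_zero] at a1
    have a2 := congrArg (h · p0) a1
    have a3 := congrArg (h · q) a1
    simp only [hal, hsl, Γ.i0.2, hq.2, pq, hz pq, mul_zero, add_zero] at a2 a3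
    by_contra l1
    have k : ∀ l a : K4, l ≠ 1 → a = l * a → a = 0 := by decide +kernel
    rw [k _ _ l1 a2, k _ _ l1 a3, zero_smul, zero_smul, add_zero, add_zero] at a1
    exact hu.1 (funext fun i => k _ _ l1 (congrFun a1 i))
  rw [← e1, ← Γ.zz]
  refine (two hu'.1 (fun c' e' => tz ?_) fun x => by simpa [l1] using H x).imp
    (fun a => ((Γ.eq Γ.i0 hu).2 a).symm) fun a => ((Γ.eq hq hu).2 a).symm
  have := (Γ.eq hu' hu).2 ⟨c', e'⟩
  rw [e1, e2] at this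
  simpa using this

theorem hB {t : G} (ht : t ∈ DD pt) (tz : t ≠ z) (c : Commute t z) :
    ∃ a ∈ DD pt, ∃ b ∈ DD pt, ∃ d ∈ DD pt,
      Commute a b ∧ Commute a d ∧ Commute b d ∧ a * b * d = z * t := by
  obtain ⟨q, hq, rfl⟩ := ht
  have pq : h p0 q = 0 := (Γ.cm Γ.i0 hq).1 (by rw [Γ.zz]; exact c.symm)
  have hh : ∀ a b : K4, h (p0 + a • q) (p0 + b • q) = 0 := fun a b => by
    simp [Γ.i0.2, hq.2, pq, hz pq]
  have is : ∀ a : K4, Is (p0 + a • q) := fun a =>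
    ⟨fun e => tz (by rw [← Γ.zz]; exact (Γ.eq hq Γ.i0).2 ⟨a, eq_of_add e⟩), hh a a⟩
  have cm : ∀ a b : K4, Commute (pt (p0 + a • q)) (pt (p0 + b • q)) := fun a b =>
    (Γ.cm (is a) (is b)).2 (hh a b)
  refine ⟨_, ⟨_, is 1, rfl⟩, _, ⟨_, is ω, rfl⟩, _, ⟨_, is (ω ^ 2), rfl⟩, cm 1 ω, cm 1 (ω ^ 2),
    cm ω (ω ^ 2), ?_⟩
  obtain ⟨a1, t1⟩ := ex_tr (cd1 (is 1).2)
  obtain ⟨a2, t2⟩ := ex_tr (cd1 (is ω).2)
  obtain ⟨a3, t3⟩ := ex_tr (cd1 (is (ω ^ 2)).2)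
  obtain ⟨b, tb⟩ := ex_tr (cd1 Γ.i0.2)
  obtain ⟨b', tb'⟩ := ex_tr (cd1 hq.2)
  have e : a1 * a2 * a3 = b * b' := LinearEquiv.ext fun x => by
    simp only [LinearEquiv.mul_apply]
    rw [t1, t2, t3, tb, tb']
    simp only [hal, hsl, hh, hz pq, mul_zero, add_zero, one_mul]
    simp only [har, hsr]
    refine funext fun j => ?_
    simp only [Pi.add_apply, Pi.smul_apply, smul_eq_mul]
    have w1 : ω ^ 2 + ω + 1 = 0 := by decide +kernel
    have w2 : ω ^ 4 + ω ^ 2 + 1 = 0 := by decide +kernel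
    have w3 : ω ^ 6 + ω ^ 3 = 0 := by decide +kernel
    linear_combination (h x p0 * q j) * w1 + (h x q * p0 j) * w2 + (h x q * q j) * w3 +
      (h x p0 * p0 j) * two0
  have := mul_mem (mul_mem (Γ.gen (is 1) t1) (Γ.gen (is _) t2)) (Γ.gen (is _) t3)
  rw [Prod.mk_mul_mk, Prod.mk_mul_mk, e] at this
  have m2 := mul_mem (Γ.gen Γ.i0 tb) (Γ.gen hq tb')
  rw [Prod.mk_mul_mk, Γ.zz] at m2
  exact Γ.uniq this m2

theorem card (hc : Nat.card {x // Is x} = 2079) : (DD pt).ncard = 693 := by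
  have := H9.card_eq_mul_of_fibers Is (· ∈ DD pt) pt (fun a ha => ⟨a, ha, rfl⟩) 3 (by
    rintro _ ⟨p, hp, rfl⟩
    have : Nat.card {c : K4 // c ≠ 0} = 3 := by rw [Nat.card_eq_fintype_card]; decide +kernel
    rw [← this]
    refine (Nat.card_eq_of_bijective (fun c => ⟨c.1 • p, hp.smul c.2, Γ.sm hp c.2⟩)
      ⟨fun c d e => Subtype.ext (smul_left_injective K4 hp.1 (congrArg Subtype.val e)), ?_⟩).symm
    rintro ⟨a, ha, e⟩
    obtain ⟨c, rfl⟩ := (Γ.eq hp ha).1 e.symm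
    exact ⟨⟨c, fun c0 => ha.1 (by simp [c0])⟩, rfl⟩)
  rw [hc] at this
  rw [← Nat.card_coe_set_eq]
  have e : Nat.card (DD pt) = Nat.card {b // b ∈ DD pt} := rfl
  omega

theorem top (hc : Nat.card {x // Is x} = 2079)
    (hs : ∀ m, Commute m z → m * m ∈ closure (DD pt)) : normalizer (DD pt) = ⊤ := by
  refine endgame z Γ.z2 _ (DD pt) (fun d => ⟨fun hd => ?_, ?_⟩) (fun g hg => ?_)
    (fun g c => Γ.clD Γ.zD (isConj_iff.2 ⟨g, rfl⟩) c) (by rw [Γ.card hc]; decide)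
    (by rw [Γ.card hc]; decide) (fun t ht tz c m hm mc => Γ.hA ht tz c hm mc)
    (fun t ht tz c => Γ.hB ht tz c) fun m hm m3 => Γ.ord3 ?_ m3
  · obtain ⟨g, rfl⟩ := isConj_iff.1 (Γ.icD hd)
    exact ⟨g, Γ.nor Γ.zD hd, rfl⟩
  · rintro ⟨m, hm, rfl⟩
    exact (mem_set_normalizer_iff.1 hm z).1 Γ.zD
  · refine Γ.nor Γ.zD ?_
    rw [mem_centralizer_singleton_iff.1 hg, mul_inv_cancel_right]; exact Γ.zD
  · obtain ⟨a, ha, k, hk, rfl⟩ := Γ.dec hm
    have kn : k ∈ normalizer (DD pt) := Γ.nor Γ.zD (by rw [hk.eq, mul_inv_cancel_right]; exact Γ.zD)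
    have ka : k * a * k⁻¹ ∈ closure (DD pt) := by
      refine (show closure (DD pt) ≤ (closure (DD pt)).comap (MulAut.conj k).toMonoidHom from
        (closure_le _).2 fun d hd => subset_closure ((mem_set_normalizer_iff.1 kn d).1 hd)) ha
    have m2 : (a * k) ^ 2 ∈ closure (DD pt) := by
      convert mul_mem (mul_mem ha ka) (hs k hk) using 1
      rw [pow_two]; group
    have := pow_mem m2 2
    rwa [← pow_mul, show 2 * 2 = 3 + 1 from rfl, pow_succ, m3, one_mul] at this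

omit Γ in
theorem mv {p f f' : W} (hp : h p p = 0) (hf : h f f = 0) (hf' : h f' f' = 0) (a : h p f = 1)
    (a' : h p f' = 1) : ∃ t ∈ closure {g | ∃ q, h q p = 0 ∧ h q q = 0 ∧ Tr 1 q g}, t f = f' := by
  have k : ∀ f f', h f f = 0 → h f' f' = 0 → h p f = 1 → h p f' = 1 → h f f' = 1 →
      ∃ t ∈ closure {g | ∃ q, h q p = 0 ∧ h q q = 0 ∧ Tr 1 q g}, t f = f' :=
    fun f f' hf hf' a a' b => by
      have hc : h (f + f') (f + f') = 0 := by simp [hf, hf', b, ho b, aa]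
      obtain ⟨s, hs⟩ := ex_tr (cd1 hc)
      refine ⟨s, Subgroup.subset_closure ⟨_, by simp [ho a, ho a', aa], hc, hs⟩, ?_⟩
      rw [hs, har, hf, b]; simp [← add_assoc, vv]
  by_cases H : ∃ y, h y y = 0 ∧ h y p = 0 ∧ h y f = 0 ∧ h y f' = h f f'
  · obtain ⟨y, y0, y1, y2, y3⟩ := H
    have i1 : h (f + p + y) (f + p + y) = 0 := by
      simp [hf, hp, y0, a, ho a, y1, y2, hz y1, hz y2, aa]
    have i2 : h p (f + p + y) = 1 := by simp [a, hp, hz y1]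
    obtain ⟨t, ht, e⟩ := k f _ hf i1 a i2 (by simp [hf, ho a, hz y2])
    obtain ⟨t', ht', e'⟩ := k _ f' i1 hf' i2 a' (by
      simp only [hal, a', y3]; linear_combination (h f f') * two0)
    exact ⟨t' * t, mul_mem ht' ht, by simp [e, e']⟩
  · have n0 : h f f' ≠ 0 := fun e => H ⟨0, by simp, by simp, by simp, by simp [e]⟩
    have sp := span4 hp hf a (r := f') fun y y0 y1 y2 => by_contra fun n => H
      ⟨(h f f' * h y f' ^ 2) • y, by simp [y0], by simp [y1], by simp [y2], by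
        rw [hsl]; linear_combination (h f f') * cube _ n⟩
    rw [ho a', one_smul] at sp
    refine k f f' hf hf' a a' ?_
    have e := hf'
    rw [sp] at e
    simp only [hal, har, hsl, hsr, hp, hf, a, ho a, mul_zero, mul_one, add_zero, zero_add] at e
    have k : ∀ t : K4, t ^ 2 ≠ 0 → t + t ^ 2 = 0 → t ^ 2 = 1 := by decide +kernel
    rw [hsy f' f] at n0 ⊢
    exact k _ n0 (by linear_combination e)

theorem stab (hp : p0 = ω ^ 2 • e 0 + ω • e 1) {g : G} (hg : g ∈ closure (DD pt))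
    (c : Commute g z) : g ∈ closure {d | d ∈ DD pt ∧ Commute d z} := by
  obtain ⟨a, ha, m⟩ := Γ.lift1 hg
  obtain ⟨l, hl⟩ := (Γ.eq Γ.i0 (Γ.i0.map m.1)).1 (by
    rw [← m.2 _ Γ.i0, Γ.zz]; exact (mul_inv_eq_iff_eq_mul.2 c.eq).symm)
  have l0 : l ≠ 0 := fun l0 => (Γ.i0.map m.1).1 (by simp [hl, l0])
  obtain ⟨s, hs, e1⟩ := scal_mem (inv_ne_zero l0)
  have m1 : (1, s) ∈ Ω pt := ⟨hs.1, fun p hp => by
    simp only [one_mul, inv_one, mul_one, e1]; exact (Γ.sm hp (inv_ne_zero l0)).symm⟩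
  have m2 : (g, s * a) ∈ Ω pt := by simpa using mul_mem m1 m
  have sa := mul_mem hs ha
  have a0 : (s * a) p0 = p0 := by
    rw [LinearEquiv.mul_apply, show a p0 = _ from hl, e1, smul_smul, inv_mul_cancel₀ l0, one_smul]
  generalize s * a = b at m2 sa a0
  have f0 : h (e 0 + e 1) (e 0 + e 1) = 0 := by simp [ee, ee', aa]
  have f1 : h p0 (e 0 + e 1) = 1 := by simp [hp, ee, ee', ω1]
  obtain ⟨t, ht, e2⟩ := mv Γ.i0.2 f0 (f' := b (e 0 + e 1)) (by rw [U.h sa.1, f0]) f1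
    (by rw [← a0, U.h sa.1, f1])
  have tS : t ∈ S ∧ t p0 = p0 := by
    refine closure_induction (p := fun t _ => t ∈ S ∧ t p0 = p0) ?_ ⟨one_mem _, rfl⟩ ?_ ?_ ht
    · rintro t ⟨q, q1, q2, q3⟩; exact ⟨tr_mem q2 q3, q3.fix (hz q1)⟩
    · rintro x y - - ⟨x1, x2⟩ ⟨y1, y2⟩; exact ⟨mul_mem x1 y1, by simp [x2, y2]⟩
    · rintro x - ⟨x1, x2⟩; exact ⟨inv_mem x1, (LinearEquiv.symm_apply_eq x).2 x2.symm⟩
  have tb := mul_mem (inv_mem tS.1) sa
  have c1 : (t⁻¹ * b) p0 = p0 := by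
    rw [LinearEquiv.mul_apply, a0]; exact (LinearEquiv.symm_apply_eq t).2 tS.2.symm
  have c2 : (t⁻¹ * b) (e 0 + e 1) = e 0 + e 1 := by
    rw [LinearEquiv.mul_apply]; exact (LinearEquiv.symm_apply_eq t).2 e2.symm
  have bT : t⁻¹ * b ∈ T {2, 3, 4, 5} := by
    generalize t⁻¹ * b = r at tb c1 c2
    rw [hp, map_add, map_smul, map_smul] at c1
    rw [map_add] at c2
    have k : ∀ a b c d : K4, ω ^ 2 * a + ω * b = ω ^ 2 * c + ω * d → a + b = c + d →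
      a = c ∧ b = d := by decide +kernel
    exact genT4 tb.1 tb.2 (funext fun j => (k _ _ _ _ (congrFun c1 j) (congrFun c2 j)).1)
      (funext fun j => (k _ _ _ _ (congrFun c1 j) (congrFun c2 j)).2)
  have le : T {2, 3, 4, 5} ≤ closure {g | ∃ q, h q p0 = 0 ∧ h q q = 0 ∧ Tr 1 q g} := by
    refine closure_mono ?_
    rintro g ⟨q, q1, q2, q3⟩
    exact ⟨q, by simp [hp, he, q1 0 (by simp), q1 1 (by simp)], q2, q3⟩
  obtain ⟨x, hx, m3⟩ := Γ.lift2' (E := closure {d | d ∈ DD pt ∧ Commute d z})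
    (fun q hq q1 => Subgroup.subset_closure ⟨⟨q, hq, rfl⟩, by
      rw [← Γ.zz]; exact (Γ.cm hq Γ.i0).2 q1⟩) (mul_mem ht (le bT))
  rw [mul_inv_cancel_left] at m3
  rwa [Γ.uniq m2 m3]

end Gm

/-- coordinates -/
def co (x : W6) : W :=
  ![x.1 * ω ^ 2 + x.2.2, x.1 * ω + x.2.2, x.2.1.1, x.2.1.2.1, x.2.1.2.2.1, x.2.1.2.2.2]
def oc (y : W) : W6 := (y 0 + y 1, (y 2, y 3, y 4, y 5), ω * y 0 + ω ^ 2 * y 1)

theorem co_oc (y : W) : co (oc y) = y := by
  have k : ∀ a b : K4, (a + b) * ω ^ 2 + (ω * a + ω ^ 2 * b) = a ∧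
    (a + b) * ω + (ω * a + ω ^ 2 * b) = b := by decide +kernel
  funext i; fin_cases i <;> simp [co, oc, k]

theorem oc_co (x : W6) : oc (co x) = x := by
  have k : ∀ a b : K4, a * ω ^ 2 + b + (a * ω + b) = a ∧
    ω * (a * ω ^ 2 + b) + ω ^ 2 * (a * ω + b) = b := by decide +kernel
  simp [co, oc, k]

theorem oc_smul (c : K4) (y : W) : oc (c • y) = c • oc y := by
  simp only [oc, Pi.smul_apply, smul_eq_mul, Prod.smul_mk, Prod.mk.injEq, true_and]
  constructor <;> ring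

theorem h_oc (x y : W) : h6 (oc x) (oc y) = h x y := by
  have k : ∀ a b c d : K4, (a + b) * (ω * c + ω ^ 2 * d) ^ 2 + (ω * a + ω ^ 2 * b) * (c + d) ^ 2 =
    a * c ^ 2 + b * d ^ 2 := by decide +kernel
  simp only [h6, hf, oc, cj, h, Fin.sum_univ_six, ← pow_two]
  linear_combination k (x 0) (x 1) (y 0) (y 1)

theorem iso_oc {y : W} : Iso (oc y) ↔ Is y := by
  rw [Iso, h_oc]
  refine and_congr_left fun _ => not_congr ⟨fun e => ?_, fun e => by simp [e, oc]⟩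
  rw [← co_oc y, e]
  funext i; fin_cases i <;> simp [co]

theorem card_iso : Nat.card {x // Iso x} = 2079 := by
  have : Nat.card {x : W6 // x ≠ 0 ∧ h6 x x = 0} = 2079 := by
    rw [Nat.card_eq_fintype_card, Fintype.card_subtype]
    decide +kernel
  exact this

theorem card_is : Nat.card {x // Is x} = 2079 := by
  rw [← card_iso]
  exact Nat.card_congr (Equiv.subtypeEquiv ⟨oc, co, co_oc, oc_co⟩ fun a => iso_oc.symm)

end U6.Id

namespace U6

open Subgroup Cfsg Id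

theorem Geo.final {G : Type*} [Group G] [Finite G] {z : G} (Γ : Geo z) {K : Type*} [Field K]
    [Fintype K] (hK : Fintype.card K = 4) : Nonempty (Γ.G0 ≃* PSU 6 K 2) ∧ Γ.G0.Normal ∧
    (∀ g, ∃ a ∈ Γ.G0, ∃ h, Commute h z ∧ g = a * h) ∧ ∀ g ∈ Γ.G0, Commute g z →
      g ∈ closure {d | (∃ x, Iso x ∧ Γ.pt x = d) ∧ Commute d z} := by
  have e0 : oc (ω ^ 2 • e 0 + ω • e 1) = (1, 0, 0) := by
    simp [oc, e, ω1]; decide +kernel
  have m : Gm z (Γ.pt ∘ oc) (ω ^ 2 • e 0 + ω • e 1) :=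
    { z2 := Γ.z2
      i0 := iso_oc.1 (by rw [e0]; exact ⟨by decide +kernel, by decide +kernel⟩)
      cnj := fun hx => Γ.cnj (iso_oc.2 hx)
      eq := fun {x y} hx hy => (Γ.eq (iso_oc.2 hx) (iso_oc.2 hy)).trans (exists_congr fun c => by
        rw [← oc_smul]; exact ⟨fun e => by rw [← co_oc y, e, co_oc], fun e => by rw [e]⟩)
      cm := fun {x y} hx hy => (Γ.cm (iso_oc.2 hx) (iso_oc.2 hy)).trans (by rw [h_oc])
      cl := fun {x d} hx hd c => by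
        obtain ⟨y, hy, e⟩ := Γ.cl (iso_oc.2 hx) hd c
        exact ⟨co y, iso_oc.1 (by rwa [oc_co]), by simp [oc_co, e]⟩
      zz := by simp only [Function.comp, e0, Γ.zz]
      fa := fun g H => Γ.fa g fun x hx => by
        simpa [oc_co] using H (co x) (iso_oc.1 (by rwa [oc_co])) }
  have eD : DD (Γ.pt ∘ oc) = Γ.pt '' {x | Iso x} := by
    ext d
    exact ⟨fun ⟨x, hx, e⟩ => ⟨oc x, iso_oc.2 hx, e⟩,
      fun ⟨x, hx, e⟩ => ⟨co x, iso_oc.1 (by rwa [oc_co]), by simp [oc_co, e]⟩⟩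
  have tp := m.top card_is (by rw [eD]; exact Γ.sq)
  have a := m.psu hK
  have b := fun g => m.dec (tp.ge (mem_top g))
  have c := fun g (hg : g ∈ _) (cg : Commute g z) => m.stab rfl hg cg
  rw [eD] at tp a b c
  refine ⟨a, ⟨fun n hn g => ?_⟩, b, c⟩
  exact (show Γ.G0 ≤ Γ.G0.comap (MulAut.conj g).toMonoidHom from (closure_le _).2 fun d hd =>
    Subgroup.subset_closure ((mem_set_normalizer_iff.1 (tp.ge (mem_top g)) d).1 hd)) hn

end U6
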