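import Cfsg.Agent.U6.V

/-! Basic facts on the structure `St`. -/

set_option autoImplicit false
open Equiv Subgroup

namespace U6

section Card
variable {G K : Type*} [Group G] [Group K]

def imf (X : Subgroup G) (p : G → K) (h : ∀ a ∈ X, ∀ b ∈ X, p (a * b) = p a * p b) : Subgroup K :=
  (MonoidHom.mk' (fun x : X => p x) fun a b => h a a.2 b b.2).range
theorem mem_imf {X : Subgroup G} {p : G → K} {h} {k : K} : k ∈ imf X p h ↔ ∃ x ∈ X, p x = k :=
  ⟨fun ⟨x, e⟩ => ⟨x, x.2, e⟩, fun ⟨x, hx, e⟩ => ⟨⟨x, hx⟩, e⟩⟩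
theorem card_imf {X N : Subgroup G} {p : G → K} (h) (hN : ∀ x ∈ X, p x = 1 ↔ x ∈ N) :
    Nat.card X = Nat.card (X ⊓ N : Subgroup G) * Nat.card (imf X p h) := by
  set f := MonoidHom.mk' (fun x : X => p x) fun a b => h a a.2 b b.2
  have e : f.ker = (X ⊓ N).subgroupOf X := by
    ext x; simp [f, mem_subgroupOf, hN x x.2]
  rw [← f.ker.card_mul_index, index_ker, e,
    Nat.card_congr (subgroupOfEquivOfLe (inf_le_left : X ⊓ N ≤ X)).toEquiv]
  rfl
theorem card_le_list (A : Subgroup K) (l : List K) (h : ∀ x ∈ A, x ∈ l) :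
    Nat.card A ≤ l.length := by
  classical
  calc Nat.card A = (A : Set K).ncard := rfl
    _ ≤ ((l.toFinset : Finset K) : Set K).ncard :=
      Set.ncard_le_ncard (fun x hx => by simpa using h x hx) (Finset.finite_toSet _)
    _ ≤ l.length := by rw [Set.ncard_coe_finset]; exact List.toFinset_card_le l
theorem ex_not_mem (A : Subgroup K) (l : List K) (h : l.length < Nat.card A) :
    ∃ x ∈ A, x ∉ l := by
  by_contra hc
  push Not at hc
  exact absurd (card_le_list A l hc) (by omega)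
theorem comm_of_sq {A : Subgroup K} (h : ∀ a ∈ A, a * a = 1) {a b : K} (ha : a ∈ A) (hb : b ∈ A) :
    a * b = b * a := by
  have e := h _ (mul_mem ha hb)
  calc a * b = a * (a * b * (a * b)) * b := by rw [e]; simp
    _ = a * a * (b * a) * (b * b) := by group
    _ = b * a := by rw [h a ha, h b hb]; simp

theorem card_half [Finite G] {Y : Subgroup G} {t z : G}
    (hz : ∀ q ∈ Y, Commute q z) (h : ∀ q ∈ Y, q * t * q⁻¹ = t ∨ q * t * q⁻¹ = t * z) :
    Nat.card Y ≤ 2 * Nat.card (Y ⊓ centralizer {t} : Subgroup G) := by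
  have hm : ∀ a ∈ Y, ∀ b ∈ Y, t⁻¹ * (a * b * t * (a * b)⁻¹) =
      t⁻¹ * (a * t * a⁻¹) * (t⁻¹ * (b * t * b⁻¹)) := fun a ha b hb => by
    have e : a * b * t * (a * b)⁻¹ = a * (b * t * b⁻¹) * a⁻¹ := by group
    rw [e]
    rcases h b hb with e | e <;> rw [e]
    · group
    · have := (hz a ha).inv_left.eq
      calc t⁻¹ * (a * (t * z) * a⁻¹) = t⁻¹ * (a * t * (z * a⁻¹)) := by group
        _ = _ := by rw [← this]; group
  rw [card_imf (N := centralizer {t}) (p := fun q => t⁻¹ * (q * t * q⁻¹)) hm fun x _ => by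
    rw [mem_centralizer_singleton_iff, inv_mul_eq_one, eq_mul_inv_iff_mul_eq, eq_comm], mul_comm]
  refine Nat.mul_le_mul_right _ (card_le_list _ [1, z] fun x hx => ?_)
  obtain ⟨q, hq, rfl⟩ := mem_imf.1 hx
  rcases h q hq with e | e <;> simp [e]

theorem card_pow_two [Finite K] (A : Subgroup K) (h : ∀ a ∈ A, a * a * (a * a) = 1) {m n : ℕ}
    (hK : Nat.card K = 2 ^ n * m) (hm : Nat.Coprime 2 m) : Nat.card A ≤ 2 ^ n := by
  have hp : IsPGroup 2 A := fun a => ⟨2, Subtype.ext (by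
    simpa [pow_succ, mul_assoc] using h a a.2)⟩
  obtain ⟨k, hk⟩ := IsPGroup.iff_card.1 hp
  have hd := A.card_subgroup_dvd_card
  rw [hK, hk] at hd
  rw [hk]
  exact Nat.le_of_dvd (by positivity) ((hm.pow_left k).dvd_of_dvd_mul_right hd)
end Card

variable {G : Type*} [Group G]

theorem mcs {a b : G} : a ∈ centralizer ({b} : Set G) ↔ Commute a b :=
  mem_centralizer_singleton_iff

/-- the fixed vectors -/
def Fx (γ : Perm V) : Finset V := Finset.univ.filter fun x => γ x = x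
theorem mem_Fx {γ : Perm V} {x : V} : x ∈ Fx γ ↔ γ x = x := by simp [Fx]
def M4 (γ : Perm V) : Prop := ∀ x, γ x = x → ∃ y, x = y + γ y
def IsA (γ : Perm V) : Prop := ∀ y, hf (y + γ y) (y + γ y) = 0

namespace St
variable {z : G} (S : St z)

theorem cz {g a : G} (h : Commute a (g * z * g⁻¹)) : Commute (g⁻¹ * a * g) z := by
  have := h.eq
  show _ = _
  calc g⁻¹ * a * g * z = g⁻¹ * (a * (g * z * g⁻¹)) * g := by group
    _ = _ := by rw [this]; group

/-- transport along conjugation -/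
def cjg (g : G) : St (g * z * g⁻¹) where
  Q := S.Q.comap (MulAut.conj g⁻¹).toMonoidHom
  π m := S.π (g⁻¹ * m * g)
  ρ q := S.ρ (g⁻¹ * q * g)
  z2 := by rw [show g * z * g⁻¹ * (g * z * g⁻¹) = g * (z * z) * g⁻¹ by group, S.z2]; simp
  z1 h := S.z1 (by simpa [mul_inv_eq_iff_eq_mul] using h)
  zQ := by simpa [mem_comap, mul_assoc] using S.zQ
  QM {q} hq := by
    have := (S.QM (q := g⁻¹ * q * g) (by simpa [mem_comap] using hq)).eq
    show _ = _
    calc q * (g * z * g⁻¹) = g * (g⁻¹ * q * g * z) * g⁻¹ := by group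
      _ = _ := by rw [this]; group
  pm ha hb := by rw [← S.pm (cz ha) (cz hb)]; congr 1; group
  pk ha := by rw [S.pk (cz ha)]; simp [mem_comap]
  ps h := by
    obtain ⟨m, hm, e⟩ := S.ps h
    refine ⟨g * m * g⁻¹, ?_, by rw [← e]; congr 1; group⟩
    show _ = _
    calc g * m * g⁻¹ * (g * z * g⁻¹) = g * (m * z) * g⁻¹ := by group
      _ = _ := by rw [hm.eq]; group
  rm ha hb := by
    rw [← S.rm (by simpa [mem_comap] using ha) (by simpa [mem_comap] using hb)]; congr 1; group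
  rk {a} ha := by
    rw [S.rk (by simpa [mem_comap] using ha)]
    refine or_congr ⟨fun h => ?_, fun h => by simp [h]⟩ ⟨fun h => ?_, fun h => by rw [h]; group⟩
    · rw [show a = g * (g⁻¹ * a * g) * g⁻¹ by group, h]; simp
    · rw [← h]; group
  rs v := by
    obtain ⟨a, ha, e⟩ := S.rs v
    exact ⟨g * a * g⁻¹, by simpa [mem_comap, mul_assoc] using ha, by rw [← e]; congr 1; group⟩
  rc hm hq := by
    rw [← S.rc (cz hm) (by simpa [mem_comap] using hq)]; congr 1; group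
  sq {q} hq := by
    rw [← S.sq (by simpa [mem_comap] using hq),
      show g⁻¹ * q * g * (g⁻¹ * q * g) = g⁻¹ * (q * q) * g by group]
    rw [mul_assoc, inv_mul_eq_one]; simp
  sl hm := S.sl (cz hm)
  ns hm := S.ns (cz hm)
theorem ex_conj (S : St z) {t : G} (c : IsConj z t) : Nonempty (St t) := by
  obtain ⟨g, rfl⟩ := isConj_iff.1 c
  exact ⟨S.cjg g⟩
theorem sl' {m : G} (h : Commute m z) : SL (S.π m) := S.sl h

theorem p1 : S.π 1 = 1 := (S.pk (Commute.one_left z)).2 S.Q.one_mem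
theorem pQ {q : G} (h : q ∈ S.Q) : S.π q = 1 := (S.pk (S.QM h)).2 h
theorem pinv {a : G} (h : Commute a z) : S.π a⁻¹ = (S.π a)⁻¹ :=
  eq_inv_of_mul_eq_one_left (by rw [← S.pm h.inv_left h, inv_mul_cancel, S.p1])
theorem pc {m a : G} (hm : Commute m z) (ha : Commute a z) :
    S.π (m * a * m⁻¹) = S.π m * S.π a * (S.π m)⁻¹ := by
  rw [S.pm (hm.mul_left ha) hm.inv_left, S.pm hm ha, S.pinv hm]
theorem nq {m q : G} (hm : Commute m z) (hq : q ∈ S.Q) : m * q * m⁻¹ ∈ S.Q := by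
  rw [← S.pk ((hm.mul_left (S.QM hq)).mul_left hm.inv_left), S.pc hm (S.QM hq), S.pQ hq]; simp
theorem r1 : S.ρ 1 = 0 := (S.rk S.Q.one_mem).2 (Or.inl rfl)
theorem rz : S.ρ z = 0 := (S.rk S.zQ).2 (Or.inr rfl)
theorem rinv {a : G} (h : a ∈ S.Q) : S.ρ a⁻¹ = S.ρ a := by
  have := S.rm h (inv_mem h)
  rw [mul_inv_cancel, S.r1] at this
  rw [← V2' (S.ρ a) (S.ρ a⁻¹), ← this, add_zero]
theorem eqr {a b : G} (ha : a ∈ S.Q) (hb : b ∈ S.Q) (e : S.ρ a = S.ρ b) : b = a ∨ b = a * z := by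
  have := (S.rk (mul_mem (inv_mem ha) hb)).1 (by rw [S.rm (inv_mem ha) hb, S.rinv ha, e, V2])
  exact this.imp (fun h => (inv_mul_eq_one.1 h).symm) fun h => by rw [← h]; group
theorem sq' {q : G} (h : q ∈ S.Q) : q * q = 1 ∨ q * q = z :=
  (S.rk (mul_mem h h)).1 (by rw [S.rm h h, V2])
theorem four {q : G} (h : q ∈ S.Q) : q * q * (q * q) = 1 := by
  rcases S.sq' h with e | e <;> simp [e, S.z2]
theorem cm' {a b : G} (ha : a ∈ S.Q) (hb : b ∈ S.Q) :
    a * b * a⁻¹ = b ∨ a * b * a⁻¹ = b * z :=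
  S.eqr hb (S.nq (S.QM ha) hb) (by rw [S.rc (S.QM ha) hb, S.pQ ha]; rfl)
theorem ne_mul_z (S : St z) (a : G) : a * z ≠ a := fun h => S.z1 (by simpa using h)
theorem cm {a b : G} (ha : a ∈ S.Q) (hb : b ∈ S.Q) :
    Commute a b ↔ bf (S.ρ a) (S.ρ b) = 0 := by
  have h := S.sq (mul_mem ha hb)
  rw [S.rm ha hb, qf_add] at h
  have e : a * b * (a * b) = a * a * (a⁻¹ * b * a⁻¹⁻¹) * b := by group
  have hc : Commute a b ↔ a⁻¹ * b * a⁻¹⁻¹ = b := by
    rw [inv_inv, mul_assoc, inv_mul_eq_iff_eq_mul]; exact eq_comm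
  have zb := (S.QM hb).eq
  have z1 := S.z1
  have n : b * z ≠ b := S.ne_mul_z b
  have sa := S.sq ha
  have sb := S.sq hb
  rw [e] at h
  rw [hc]
  have zz : z * z = 1 := S.z2
  have e1 : b * z * b = z * (b * b) := by rw [zb, mul_assoc]
  have k2 : (1 : K4) + 1 = 0 := K2 1
  rcases hf_self (S.ρ a) with u | u <;> rcases hf_self (S.ρ b) with v | v <;>
    rcases bf01 (S.ρ a) (S.ρ b) with w | w <;> rw [u] at sa <;> rw [v] at sb <;>
    rw [u, v, w] at h <;> rw [w] <;>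
    rcases S.cm' (inv_mem ha) hb with c | c <;> rw [c] at h ⊢ <;>
    rw [mul_assoc] at h <;> (try rw [e1] at h) <;>
    rcases S.sq' ha with x | x <;> rcases S.sq' hb with y | y <;> rw [x] at sa h <;>
    rw [y] at sb h <;> simp [z1, n, zz, k2] at sa sb h ⊢
theorem ncm {a b : G} (ha : a ∈ S.Q) (hb : b ∈ S.Q) (h : ¬ Commute a b) :
    a * b * a⁻¹ = b * z :=
  (S.cm' ha hb).resolve_left fun e => h (mul_inv_eq_iff_eq_mul.1 e)
theorem cjz {a : G} (ha : a ∈ S.Q) (h : S.ρ a ≠ 0) : ∃ q ∈ S.Q, q * a * q⁻¹ = a * z := by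
  obtain ⟨y, hy⟩ := not_forall.1 (mt bf_nd h)
  obtain ⟨q, hq, rfl⟩ := S.rs y
  exact ⟨q, hq, S.ncm hq ha fun c => hy ((S.cm ha hq).1 c.symm)⟩

theorem card_ge [Finite G] {X : Subgroup G} (hX : X ≤ S.Q) (hz : z ∈ X) (F : Finset V)
    (h : ∀ v ∈ F, ∃ q ∈ X, S.ρ q = v) : 2 * F.card ≤ Nat.card X := by
  have hm : ∀ a ∈ X, ∀ b ∈ X, Multiplicative.ofAdd (S.ρ (a * b)) =
      Multiplicative.ofAdd (S.ρ a) * Multiplicative.ofAdd (S.ρ b) := fun a ha b hb => by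
    rw [S.rm (hX ha) (hX hb)]; rfl
  have o2 : orderOf z = 2 := orderOf_eq_prime (by rw [pow_two, S.z2]) S.z1
  rw [card_imf (N := zpowers z) (p := fun q => Multiplicative.ofAdd (S.ρ q)) hm fun x hx => by
    rw [ofAdd_eq_one, S.rk (hX hx)]
    refine ⟨fun e => by rcases e with rfl | rfl <;> simp, fun e => ?_⟩
    classical
    rw [mem_zpowers_iff_mem_range_orderOf, o2] at e
    simpa [Finset.range_add_one, eq_comm, or_comm] using e]
  rw [inf_eq_right.2 (zpowers_le.2 hz), Nat.card_zpowers, o2]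
  refine Nat.mul_le_mul_left _ ?_
  rw [← Nat.card_eq_finsetCard]
  refine Nat.card_le_card_of_injective (fun v => ⟨Multiplicative.ofAdd v.1, ?_⟩) ?_
  · obtain ⟨q, hq, e⟩ := h v v.2
    exact mem_imf.2 ⟨q, hq, by rw [e]⟩
  · intro a b e
    have := Subtype.ext_iff.1 e
    exact Subtype.ext (Multiplicative.ofAdd.injective this)
theorem card_le {D : Subgroup G} (hD : D ≤ S.Q) (hz : z ∉ D) (l : List V)
    (h : ∀ q ∈ D, S.ρ q ∈ l) : Nat.card D ≤ l.length := by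
  have hm : ∀ a ∈ D, ∀ b ∈ D, Multiplicative.ofAdd (S.ρ (a * b)) =
      Multiplicative.ofAdd (S.ρ a) * Multiplicative.ofAdd (S.ρ b) := fun a ha b hb => by
    rw [S.rm (hD ha) (hD hb)]; rfl
  rw [card_imf (N := ⊥) (p := fun q => Multiplicative.ofAdd (S.ρ q)) hm fun x hx => by
    rw [ofAdd_eq_one, S.rk (hD hx), mem_bot]
    exact ⟨fun e => e.resolve_right fun e => hz (e ▸ hx), Or.inl⟩]
  rw [inf_bot_eq, card_bot, one_mul, ← List.length_map (f := Multiplicative.ofAdd)]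
  refine card_le_list _ _ fun x hx => ?_
  obtain ⟨q, hq, rfl⟩ := mem_imf.1 hx
  exact List.mem_map_of_mem (h q hq)
/-- the image in `Γ` of a subgroup of the centralizer -/
def im (X : Subgroup G) (h : ∀ x ∈ X, Commute x z) : Subgroup (Perm V) :=
  imf X S.π fun a ha b hb => S.pm (h a ha) (h b hb)
theorem mem_im {X : Subgroup G} {h} {a : Perm V} : a ∈ S.im X h ↔ ∃ x ∈ X, S.π x = a := mem_imf
theorem card_im {X : Subgroup G} (h : ∀ x ∈ X, Commute x z) :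
    Nat.card X = Nat.card (X ⊓ S.Q : Subgroup G) * Nat.card (S.im X h) :=
  card_imf _ fun x hx => S.pk (h x hx)
theorem im_four {X : Subgroup G} (h : ∀ x ∈ X, Commute x z)
    (h4 : ∀ x ∈ X, x * x * (x * x) = 1) : ∀ a ∈ S.im X h, a * a * (a * a) = 1 := fun a ha => by
  obtain ⟨x, hx, rfl⟩ := S.mem_im.1 ha
  have c := h x hx
  rw [← S.pm c c, ← S.pm (c.mul_left c) (c.mul_left c), h4 x hx, S.p1]
theorem im_two {X : Subgroup G} (h : ∀ x ∈ X, Commute x z)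
    (h4 : ∀ x ∈ X, x * x = 1) : ∀ a ∈ S.im X h, a * a = 1 := fun a ha => by
  obtain ⟨x, hx, rfl⟩ := S.mem_im.1 ha
  rw [← S.pm (h x hx) (h x hx), h4 x hx, S.p1]

/-! ### An involution `t` commuting with `z` -/

section Inv
variable {t : G}

theorem p2 (t2 : t * t = 1) (tz : Commute t z) : S.π t * S.π t = 1 := by
  rw [← S.pm tz tz, t2, S.p1]
theorem e_mem (t2 : t * t = 1) (tz : Commute t z) {r : G} (hr : r ∈ S.Q) :
    r * t * r⁻¹ * t ∈ S.Q ∧ S.ρ (r * t * r⁻¹ * t) = S.ρ r + S.π t (S.ρ r) := by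
  have e : r * t * r⁻¹ * t = r * (t * r⁻¹ * t⁻¹) := by
    rw [inv_eq_of_mul_eq_one_left t2]; group
  have := S.nq tz (inv_mem hr)
  rw [e]
  exact ⟨mul_mem hr this, by rw [S.rm hr this, S.rc tz (inv_mem hr), S.rinv hr]⟩
theorem fix_of_comm (tz : Commute t z) {q : G} (hq : q ∈ S.Q) (h : Commute q t) :
    S.π t (S.ρ q) = S.ρ q := by
  rw [← S.rc tz hq, ← h.eq, mul_inv_cancel_right]
theorem fix_cases (tz : Commute t z) {q : G} (hq : q ∈ S.Q) (h : S.π t (S.ρ q) = S.ρ q) :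
    q * t * q⁻¹ = t ∨ q * t * q⁻¹ = t * z := by
  have qz := (S.QM hq).inv_left.eq
  rcases S.eqr (S.nq tz hq) hq (by rw [S.rc tz hq, h]) with e | e
  · left
    calc q * t * q⁻¹ = t * q * t⁻¹ * t * q⁻¹ := by rw [← e]
      _ = t := by group
  · right
    calc q * t * q⁻¹ = t * q * t⁻¹ * z * t * q⁻¹ := by rw [← e]
      _ = t * q * t⁻¹ * (z * t) * q⁻¹ := by group
      _ = t * q * (z * q⁻¹) := by rw [← tz.eq]; group
      _ = t * z := by rw [← qz]; group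
theorem ex_e (t2 : t * t = 1) (tz : Commute t z) {q : G} (hq : q ∈ S.Q)
    (h : ∃ y, S.ρ q = y + S.π t y) :
    ∃ r ∈ S.Q, q = r * t * r⁻¹ * t ∨ q = r * t * r⁻¹ * t * z := by
  obtain ⟨y, e⟩ := h
  obtain ⟨r, hr, rfl⟩ := S.rs y
  exact ⟨r, hr, S.eqr (S.e_mem t2 tz hr).1 hq (by rw [(S.e_mem t2 tz hr).2, e])⟩
theorem card_fix [Finite G] (tz : Commute t z) :
    (Fx (S.π t)).card ≤ Nat.card (S.Q ⊓ centralizer {t} : Subgroup G) := by
  let Y : Subgroup G :=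
    { carrier := {q | q ∈ S.Q ∧ S.π t (S.ρ q) = S.ρ q}
      one_mem' := ⟨one_mem _, by rw [S.r1, (S.sl' tz).zero]⟩
      mul_mem' := fun ha hb => ⟨mul_mem ha.1 hb.1, by rw [S.rm ha.1 hb.1, (S.sl' tz).add, ha.2, hb.2]⟩
      inv_mem' := fun ha => ⟨inv_mem ha.1, by rw [S.rinv ha.1, ha.2]⟩ }
  have h1 := S.card_ge (X := Y) (fun _ h => h.1) ⟨S.zQ, by rw [S.rz, (S.sl' tz).zero]⟩ (Fx (S.π t))
    fun v hv => by
      obtain ⟨q, hq, rfl⟩ := S.rs v
      exact ⟨q, ⟨hq, mem_Fx.1 hv⟩, rfl⟩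
  have h2 := card_half (Y := Y) (t := t) (fun q hq => S.QM hq.1)
    fun q hq => S.fix_cases tz hq.1 hq.2
  have h3 := card_le_of_le (inf_le_inf_right (centralizer {t}) (show Y ≤ S.Q from fun _ h => h.1))
  omega
theorem card_fix2 [Finite G] (tz : Commute t z)
    (h : ∀ q ∈ S.Q, S.π t (S.ρ q) = S.ρ q → Commute q t) :
    2 * (Fx (S.π t)).card ≤ Nat.card (S.Q ⊓ centralizer {t} : Subgroup G) :=
  S.card_ge inf_le_left ⟨S.zQ, mem_centralizer_singleton_iff.2 tz.symm.eq⟩ _ fun v hv => by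
    obtain ⟨q, hq, rfl⟩ := S.rs v
    exact ⟨q, ⟨hq, mem_centralizer_singleton_iff.2 (h q hq (mem_Fx.1 hv)).eq⟩, rfl⟩
theorem e_comm (t2 : t * t = 1) (r : G) : Commute (r * t * r⁻¹ * t) t ↔
    r * t * r⁻¹ * t * (r * t * r⁻¹ * t) = 1 := by
  have e : r * t * r⁻¹ * (r * t * r⁻¹) = 1 := by
    rw [show r * t * r⁻¹ * (r * t * r⁻¹) = r * (t * t) * r⁻¹ by group, t2]; simp
  generalize r * t * r⁻¹ = u at e ⊢
  constructor
  · intro h
    calc u * t * (u * t) = u * (t * (u * t)) := by group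
      _ = u * (u * t * t) := by rw [h.eq]
      _ = 1 := by rw [mul_assoc u t t, t2, mul_one, e]
  · intro h
    show _ = _
    calc u * t * t = u * (u * t * (u * t)) := by rw [h, mul_assoc, t2]
      _ = u * u * (t * (u * t)) := by group
      _ = _ := by rw [e, one_mul]
theorem m4_sq (t2 : t * t = 1) (tz : Commute t z) (m : M4 (S.π t)) {q : G} (hq : q ∈ S.Q)
    (h : Commute q t) : q * q = 1 := by
  obtain ⟨r, hr, e | e⟩ := S.ex_e t2 tz hq (m _ (S.fix_of_comm tz hq h))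
  · rw [e] at h ⊢; exact (e_comm t2 r).1 h
  · have c : Commute (r * t * r⁻¹ * t) t := by
      rw [show r * t * r⁻¹ * t = q * z by rw [e, mul_assoc _ z, S.z2, mul_one]]
      exact h.mul_left tz.symm
    have := (S.QM (S.e_mem t2 tz hr).1).eq
    rw [e]
    calc _ = r * t * r⁻¹ * t * (z * (r * t * r⁻¹ * t)) * z := by group
      _ = r * t * r⁻¹ * t * (r * t * r⁻¹ * t) * (z * z) := by rw [← this]; group
      _ = 1 := by rw [(e_comm t2 r).1 c, S.z2, mul_one]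
theorem isA_comm (t2 : t * t = 1) (tz : Commute t z) (m : M4 (S.π t)) (hA : IsA (S.π t)) :
    ∀ q ∈ S.Q, S.π t (S.ρ q) = S.ρ q → Commute q t := fun q hq h => by
  have c : ∀ r ∈ S.Q, Commute (r * t * r⁻¹ * t) t := fun r hr => by
    rw [e_comm t2, S.sq (S.e_mem t2 tz hr).1, (S.e_mem t2 tz hr).2]; exact hA _
  obtain ⟨r, hr, rfl | rfl⟩ := S.ex_e t2 tz hq (m _ h)
  · exact c r hr
  · exact (c r hr).mul_left tz.symm
theorem notA (t2 : t * t = 1) (tz : Commute t z) (hA : ¬ IsA (S.π t)) :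
    ∃ q ∈ S.Q, q * t * q⁻¹ = t * z := by
  obtain ⟨y, hy⟩ := not_forall.1 hA
  obtain ⟨r, hr, rfl⟩ := S.rs y
  obtain ⟨h1, h2⟩ := S.e_mem t2 tz hr
  refine ⟨_, h1, (S.fix_cases tz h1 ?_).resolve_left fun e => hy ?_⟩
  · rw [h2, (S.sl' tz).add, ← Perm.mul_apply, S.p2 t2 tz, Perm.one_apply, add_comm]
  · rw [← h2, ← S.sq h1, ← e_comm t2]; exact mul_inv_eq_iff_eq_mul.1 e
theorem conj_e (t2 : t * t = 1) (r : G) : IsConj t (r * t * r⁻¹ * t * t) :=
  isConj_iff.2 ⟨r, by rw [mul_assoc _ t t, t2, mul_one]⟩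
theorem conj_e' (t2 : t * t = 1) (tz : Commute t z) {q q0 : G} (hq : q ∈ S.Q)
    (h0 : q0 * t * q0⁻¹ = t * z) (h : ∃ y, S.ρ q = y + S.π t y) : IsConj t (q * t) := by
  obtain ⟨r, hr, rfl | rfl⟩ := S.ex_e t2 tz hq h
  · exact conj_e t2 r
  · refine isConj_iff.2 ⟨r * q0, ?_⟩
    have := (S.QM hr).inv_left.eq
    calc r * q0 * t * (r * q0)⁻¹ = r * (q0 * t * q0⁻¹) * r⁻¹ := by group
      _ = r * t * (z * r⁻¹) := by rw [h0]; group
      _ = r * t * r⁻¹ * (t * t) * z := by rw [← this, t2]; group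
      _ = r * t * r⁻¹ * t * (t * z) := by group
      _ = _ := by rw [tz.eq]; group
end Inv

theorem perp {a b : G} (ha : a ∈ S.Q) (hb : b ∈ S.Q)
    (h : ∀ q ∈ S.Q, Commute q a → Commute q b) : S.ρ b = 0 ∨ S.ρ b = S.ρ a :=
  perp2 fun y hy => by
    obtain ⟨q, hq, rfl⟩ := S.rs y
    exact (S.cm hb hq).1 (h q hq ((S.cm ha hq).2 hy).symm).symm
theorem ne0 {a : G} (T : St a) (ha : a ∈ S.Q) (n : a ≠ z) : S.ρ a ≠ 0 :=
  fun e => ((S.rk ha).1 e).elim T.z1 n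
theorem center {a : G} (ha : a ∈ S.Q) (h : ∀ q ∈ S.Q, Commute q a) : a = 1 ∨ a = z :=
  (S.rk ha).1 (bf_nd fun y => by
    obtain ⟨q, hq, rfl⟩ := S.rs y
    exact (S.cm ha hq).1 (h q hq).symm)
theorem es : H7.ES S.Q z where
  ne := S.z1
  sq_z := S.z2
  mem := S.zQ
  cent _ hq := (S.QM hq).eq
  sq _ hq := S.sq' hq
  uniq _ hx h _ := S.center hx h
  center _ hx h := S.center hx h
/-- an element of `C(z)` fixing all of `V` lies in `Q` -/
theorem mem_of_fix {m : G} (hm : Commute m z) (h : ∀ q ∈ S.Q, S.π m (S.ρ q) = S.ρ q) :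
    m ∈ S.Q := (S.pk hm).1 (Perm.ext fun v => by
      obtain ⟨q, hq, rfl⟩ := S.rs v
      exact h q hq)
theorem cardQ [Finite G] : Nat.card S.Q = 512 := by
  have hm : ∀ a ∈ S.Q, ∀ b ∈ S.Q, Multiplicative.ofAdd (S.ρ (a * b)) =
      Multiplicative.ofAdd (S.ρ a) * Multiplicative.ofAdd (S.ρ b) := fun a ha b hb => by
    rw [S.rm ha hb]; rfl
  rw [card_imf (N := zpowers z) (p := fun q => Multiplicative.ofAdd (S.ρ q)) hm fun x hx => by
    rw [ofAdd_eq_one, S.rk hx, S.es.mem_zpowers_iff], inf_eq_right.2 (zpowers_le.2 S.zQ),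
    S.es.card_zpowers, show imf S.Q (fun q => Multiplicative.ofAdd (S.ρ q)) hm = ⊤ from
      eq_top_iff.2 fun v _ => by
        obtain ⟨q, hq, e⟩ := S.rs v.toAdd
        exact mem_imf.2 ⟨q, hq, by rw [e]; rfl⟩, card_top]
  show 2 * Nat.card V = 512
  rw [cardV]
theorem third {r a b : G} (hr : r ∈ S.Q) (ha : a ∈ S.Q) (hb : b ∈ S.Q) :
    Commute r a ∨ Commute r b ∨ Commute r (a * b) := by
  rw [S.cm hr ha, S.cm hr hb, S.cm hr (mul_mem ha hb), S.rm ha hb, bf_addr]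
  rcases bf01 (S.ρ r) (S.ρ a) with e | e <;> rcases bf01 (S.ρ r) (S.ρ b) with f | f <;>
    simp [e, f, K2]

end St
end U6
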