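import Cfsg.Agent.U6.O1
import Cfsg.Agent.U6.St
import Cfsg.Agent.U6.Id3
import Cfsg.Agent.U6.G4
import Cfsg.Agent.H3.ZCor

/-! Assembly of the characterization of `U₆(2)`. -/

set_option autoImplicit false

namespace U6.O

open Cfsg Subgroup

variable {G : Type*} [Group G] [Finite G] {F : Type*} [Field F] [Fintype F]

theorem mc {a b : G} : a ∈ centralizer ({b} : Set G) ↔ Commute a b := by
  rw [mem_centralizer_singleton_iff]; rfl

theorem mkHyp {z : G} (hz : orderOf z = 2)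
    {Q0 : Subgroup (centralizer ({z} : Set G))} [Q0.Normal] (hQ : IsExtraspecial 2 Q0)
    (h9 : Nat.card Q0 = 2 ^ 9) (hC : centralizer (Q0 : Set (centralizer ({z} : Set G))) ≤ Q0)
    {A : Type*} [Group A] (e : (centralizer ({z} : Set G) ⧸ Q0) ≃* A) (ι : PSp 2 F →* A)
    (hi : Function.Injective ι) (hn : ι.range.Normal)
    (hc : ∀ a, (∀ x, a * ι x = ι x * a) → a = 1) :
    ∃ Q H0 : Subgroup G, Nonempty (Hyp F z Q H0) ∧
      ∀ m : centralizer ({z} : Set G), m.1 ∈ H0 ↔ e m ∈ ι.range := by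
  have zM : z ∈ centralizer ({z} : Set G) := mc.2 (Commute.refl z)
  have z1 : z ≠ 1 := by rintro rfl; simp at hz
  have cz : ∀ q : centralizer ({z} : Set G), q * ⟨z, zM⟩ = ⟨z, zM⟩ * q := fun q =>
    Subtype.ext (mc.1 q.2).eq
  have e0 := H7.es_of_isExtraspecial hQ (z := ⟨z, zM⟩) (fun e => z1 (congrArg Subtype.val e))
    (hC fun q _ => cz q) fun q _ => cz q
  let Q := Q0.map (centralizer ({z} : Set G)).subtype
  have mQ : ∀ m : centralizer ({z} : Set G), m.1 ∈ Q ↔ m ∈ Q0 := fun m =>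
    mem_map_iff_mem Subtype.val_injective
  let p : centralizer ({z} : Set G) →* A := e.toMonoidHom.comp (QuotientGroup.mk' Q0)
  have pk : ∀ m, p m = 1 ↔ m.1 ∈ Q := fun m => by
    rw [mQ, ← QuotientGroup.eq_one_iff]; exact map_eq_one_iff e e.injective
  have ps : ∀ a, ∃ m, p m = a := fun a => by
    obtain ⟨x, rfl⟩ := e.surjective a
    obtain ⟨m, rfl⟩ := QuotientGroup.mk_surjective x
    exact ⟨m, rfl⟩
  let H0 := (ι.range.comap p).map (centralizer ({z} : Set G)).subtype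
  have mH : ∀ m : centralizer ({z} : Set G), m.1 ∈ H0 ↔ p m ∈ ι.range := fun m =>
    mem_map_iff_mem Subtype.val_injective
  have le : H0 ≤ centralizer ({z} : Set G) := map_subtype_le _
  have lQ : Q ≤ centralizer ({z} : Set G) := map_subtype_le _
  let ψ : H0 →* ι.range := (p.comp (inclusion le)).codRestrict _ fun h => (mH ⟨h, le h.2⟩).1 h.2
  let φ : H0 →* PSp 2 F := (MonoidHom.ofInjective hi).symm.toMonoidHom.comp ψ
  have eφ : ∀ h : H0, ι (φ h) = p ⟨h, le h.2⟩ := fun h =>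
    congrArg Subtype.val ((MonoidHom.ofInjective hi).apply_symm_apply (ψ h))
  refine ⟨Q, H0, ⟨{
    es := e0.map Subtype.val_injective
    card := by
      rw [← Nat.card_congr (Q0.equivMapOfInjective _ Subtype.val_injective).toEquiv, h9]; rfl
    nq := fun {m q} hm hq => (mQ (⟨m, mc.2 hm⟩ * ⟨q, lQ hq⟩ * ⟨m, mc.2 hm⟩⁻¹)).2
      (Normal.conj_mem inferInstance _ ((mQ ⟨q, lQ hq⟩).1 hq) _)
    hc := fun m hm h => (mQ ⟨m, mc.2 hm⟩).2
      (hC fun q hq => Subtype.ext (h q ((mQ q).2 hq)).symm.eq)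
    QH := fun q hq => (mH ⟨q, lQ hq⟩).2 (by rw [(pk _).2 hq]; exact one_mem _)
    Hz := fun hh => mc.1 (le hh)
    nH := fun {m h} hm hh => (mH (⟨m, mc.2 hm⟩ * ⟨h, le hh⟩ * ⟨m, mc.2 hm⟩⁻¹)).2 (by
      rw [map_mul, map_mul, map_inv]
      exact hn.conj_mem _ ((mH ⟨h, le hh⟩).1 hh) _)
    φ := φ
    sj := fun x => by
      obtain ⟨m, hm⟩ := ps (ι x)
      exact ⟨⟨m, (mH m).2 ⟨x, hm.symm⟩⟩, hi ((eφ _).trans hm)⟩
    ker := fun h => by rw [← map_eq_one_iff ι hi, eφ, pk]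
    cen := fun m hm h => (pk ⟨m, mc.2 hm⟩).1 (hc _ fun x => by
      obtain ⟨k, hk⟩ := ps (ι x)
      have := (pk (⟨m, mc.2 hm⟩ * k * ⟨m, mc.2 hm⟩⁻¹ * k⁻¹)).2 (h k ((mH k).2 ⟨x, hk.symm⟩))
      rw [map_mul, map_mul, map_mul, map_inv, map_inv, hk, mul_inv_eq_one,
        mul_inv_eq_iff_eq_mul] at this
      exact this) }⟩, mH⟩

theorem asm {z : G} (hz : orderOf z = 2) {K : Type*} [Field K] [Fintype K]
    (hK : Fintype.card K = 4) {Q H0 : Subgroup G}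
    (hA : (∃ S : St z, S.Q = Q ∧ ∀ m, Commute m z → (Lin (S.π m) ↔ m ∈ H0)) ∨
      ∃ x y, Six z Q H0 x y) (hB : ∀ x y, Six z Q H0 x y → IsIsolated z) (hC : St z → Good z) :
    (∃ G0 : Subgroup G, Nonempty (G0 ≃* PSU 6 K 2) ∧ centralizer (G0 : Set G) = ⊥ ∧
      (∀ g, ∃ a ∈ G0, ∃ h, Commute h z ∧ g = a * h) ∧ G0.Normal ∧
      ∀ m, Commute m z → (m ∈ G0 ↔ m ∈ H0)) ∨ centralizer ({z} : Set G) ⊔ oddCore G = ⊤ := by
  by_cases hn : IsIsolated z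
  · exact Or.inr (H3.centralizer_sup_oddCore_of_isolated hz hn)
  obtain ⟨S, -, hS⟩ := hA.resolve_right fun ⟨x, y, s⟩ => hn (hB x y s)
  obtain ⟨Γ, -, h2, h3⟩ := geo S (hC S) hn
  obtain ⟨i, n, f, c⟩ := Γ.final hK
  refine Or.inl ⟨Γ.G0, i, eq_bot_iff.2 fun g hg => Γ.fa g fun x hx =>
    (hg _ (subset_closure ⟨x, hx, rfl⟩)).symm, f, n, fun m hm =>
      ⟨fun h => ?_, fun h => h2 m hm ((hS m hm).2 h)⟩⟩
  refine (closure_le H0).2 ?_ (c m h hm)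
  rintro _ ⟨⟨x, hx, rfl⟩, hd⟩
  exact (hS _ hd).1 (h3 x hx hd)

theorem fin30 {z : G} (hz : orderOf z = 2) (hF : Fintype.card F = 3)
    {K : Type*} [Field K] [Fintype K] (hK : Fintype.card K = 4)
    {Q0 : Subgroup (centralizer ({z} : Set G))} [Q0.Normal] (hQ : IsExtraspecial 2 Q0)
    (h9 : Nat.card Q0 = 2 ^ 9) (hC : centralizer (Q0 : Set (centralizer ({z} : Set G))) ≤ Q0)
    (e : (centralizer ({z} : Set G) ⧸ Q0) ≃* PSp 2 F)
    (hA : ∀ Q H0, Hyp F z Q H0 → (∃ S : St z, S.Q = Q ∧ ∀ m, Commute m z →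
      (Lin (S.π m) ↔ m ∈ H0)) ∨ ∃ x y, Six z Q H0 x y)
    (hB : ∀ Q H0 x y, Hyp F z Q H0 → Six z Q H0 x y → Ix z H0 → IsIsolated z)
    (hG : St z → Good z) :
    Nonempty (G ≃* PSU 6 K 2) ∨ centralizer ({z} : Set G) ⊔ oddCore G = ⊤ := by
  obtain ⟨Q, H0, ⟨h⟩, m0⟩ := mkHyp hz hQ h9 hC e (MonoidHom.id _) Function.injective_id
    (by rw [MonoidHom.range_eq_top.2 Function.surjective_id]; infer_instance)
    fun a ha => center_P hF fun x => (ha x).symm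
  have all : ∀ m, Commute m z → m ∈ H0 := fun m hm => (m0 ⟨m, mc.2 hm⟩).2 ⟨_, rfl⟩
  refine (asm hz hK (hA Q H0 h) (fun x y s => hB Q H0 x y h s fun a _ ha _ na _ =>
    absurd (all a ha) na) hG).imp_left ?_
  rintro ⟨G0, ⟨i⟩, -, f, -, c⟩
  have : G0 = ⊤ := eq_top_iff.2 fun g _ => by
    obtain ⟨a, ha, k, hk, rfl⟩ := f g
    exact mul_mem ha ((c k hk).2 (all k hk))
  subst this
  exact ⟨topEquiv.symm.trans i⟩

theorem fin31 {z : G} (hz : orderOf z = 2) (hF : Fintype.card F = 3)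
    {K : Type*} [Field K] [Fintype K] (hK : Fintype.card K = 4)
    {Q0 : Subgroup (centralizer ({z} : Set G))} [Q0.Normal] (hQ : IsExtraspecial 2 Q0)
    (h9 : Nat.card Q0 = 2 ^ 9) (hC : centralizer (Q0 : Set (centralizer ({z} : Set G))) ≤ Q0)
    (e : (centralizer ({z} : Set G) ⧸ Q0) ≃* MulAut (PSp 2 F))
    (hA : ∀ Q H0, Hyp F z Q H0 → (∃ S : St z, S.Q = Q ∧ ∀ m, Commute m z →
      (Lin (S.π m) ↔ m ∈ H0)) ∨ ∃ x y, Six z Q H0 x y)
    (hB : ∀ Q H0 x y, Hyp F z Q H0 → Six z Q H0 x y → Ix z H0 → IsIsolated z)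
    (hG : St z → Good z) :
    (∃ G₀ : Subgroup G, G₀.index = 2 ∧ Nonempty (G₀ ≃* PSU 6 K 2) ∧
      centralizer (G₀ : Set G) = ⊥) ∨ centralizer ({z} : Set G) ⊔ oddCore G = ⊤ := by
  have ci : Function.Injective (MulAut.conj : PSp 2 F →* _) :=
    (injective_iff_map_eq_one _).2 fun g hg => center_P hF fun x =>
      (mul_inv_eq_iff_eq_mul.1 (DFunLike.congr_fun hg x)).symm
  have cj : ∀ (a : MulAut (PSp 2 F)) x, a * MulAut.conj x * a⁻¹ = MulAut.conj (a x) :=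
    fun a x => MulEquiv.ext fun y => by simp
  obtain ⟨Q, H0, ⟨h⟩, m0⟩ := mkHyp hz hQ h9 hC e MulAut.conj ci
    ⟨by rintro _ ⟨x, rfl⟩ a; exact ⟨_, (cj a x).symm⟩⟩
    fun a ha => MulEquiv.ext fun x => ci (by rw [← cj, ha, mul_inv_cancel_right]; rfl)
  have i2 := index_P hF
  have mm : ∀ a b, Commute a z → Commute b z → (a * b ∈ H0 ↔ (a ∈ H0 ↔ b ∈ H0)) :=
    fun a b ha hb => by
      refine (m0 (⟨a, mc.2 ha⟩ * ⟨b, mc.2 hb⟩)).trans ?_
      rw [QuotientGroup.mk_mul, map_mul, mul_mem_iff_of_index_two i2, ← m0, ← m0]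
  refine (asm hz hK (hA Q H0 h) (fun x y s => hB Q H0 x y h s fun a b ha hb na nb =>
    (mm a b ha hb).2 (iff_of_false na nb)) hG).imp_left ?_
  rintro ⟨G0, i, c0, f, n, c⟩
  refine ⟨G0, ?_, i, c0⟩
  obtain ⟨a, ha⟩ := index_eq_two_iff.1 i2
  obtain ⟨x, rfl⟩ := e.surjective a
  obtain ⟨m, rfl⟩ := QuotientGroup.mk_surjective x
  have nm : m.1 ∉ H0 := fun hm => by
    rcases ha 1 with ⟨-, h⟩ | ⟨-, h⟩
    · exact h (one_mem _)
    · exact h (by rw [one_mul]; exact (m0 m).1 hm)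
  refine index_eq_two_iff.2 ⟨m, fun g => ?_⟩
  obtain ⟨a, ha, k, hk, rfl⟩ := f g
  rw [mul_assoc, G0.mul_mem_cancel_left ha, G0.mul_mem_cancel_left ha, c _ hk,
    c _ (hk.mul_left (mc.1 m.2)), mm _ _ hk (mc.1 m.2)]
  by_cases h1 : k ∈ H0 <;> simp [h1, nm]

end U6.O
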