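import Cfsg.Prelude.Def_Classical
import Cfsg.Agent.H2.F4
import Cfsg.Agent.H7.Extraspecial2

/-! Definitions for the characterization of `U₆(2)` by the centralizer `2^(1+8).U₄(2)`. -/

set_option autoImplicit false
open Subgroup

namespace U6

abbrev K4 := H2.F4
def ω : K4 := ⟨2⟩
def cj (a : K4) : K4 := a * a
abbrev V := K4 × K4 × K4 × K4
/-- the standard hermitian form -/
def hf (u v : V) : K4 :=
  u.1 * cj v.1 + u.2.1 * cj v.2.1 + u.2.2.1 * cj v.2.2.1 + u.2.2.2 * cj v.2.2.2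
/-- `γ` is the transvection with centre `p` -/
def Tv (γ : Equiv.Perm V) (p : V) : Prop := ∀ x, γ x = x + hf x p • p
def Lin (γ : Equiv.Perm V) : Prop := ∀ x y, hf (γ x) (γ y) = hf x y
def ALin (γ : Equiv.Perm V) : Prop := ∀ x y, hf (γ x) (γ y) = cj (hf x y)
/-- the group generated by the transvections, `SU₄(2)` -/
def Γ0 : Subgroup (Equiv.Perm V) := closure {γ | ∃ p, hf p p = 0 ∧ Tv γ p}

variable {G : Type*} [Group G]

/-- `C(z) = Q.U₄(2)` or `Q.U₄(2).2` with `Q/⟨z⟩` the natural module -/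
structure St (z : G) where
  Q : Subgroup G
  π : G → Equiv.Perm V
  ρ : G → V
  z2 : z * z = 1
  z1 : z ≠ 1
  zQ : z ∈ Q
  QM : ∀ {q}, q ∈ Q → Commute q z
  pm : ∀ {a b}, Commute a z → Commute b z → π (a * b) = π a * π b
  pk : ∀ {a}, Commute a z → (π a = 1 ↔ a ∈ Q)
  ps : ∀ {γ}, γ ∈ Γ0 → ∃ m, Commute m z ∧ π m = γ
  rm : ∀ {a b}, a ∈ Q → b ∈ Q → ρ (a * b) = ρ a + ρ b
  rk : ∀ {a}, a ∈ Q → (ρ a = 0 ↔ a = 1 ∨ a = z)
  rs : ∀ v, ∃ a ∈ Q, ρ a = v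
  rc : ∀ {m q}, Commute m z → q ∈ Q → ρ (m * q * m⁻¹) = π m (ρ q)
  sq : ∀ {q}, q ∈ Q → (q * q = 1 ↔ hf (ρ q) (ρ q) = 0)
  sl : ∀ {m}, Commute m z → Lin (π m) ∨ ALin (π m)
  ns : ∀ {m}, Commute m z → Lin (π m) → π m ∈ Γ0

/-- the common hypothesis of S3230 (`H0 = C(z)`) and S3231 (`H0` the preimage of `Inn`) -/
structure Hyp (F : Type*) [Field F] (z : G) (Q H0 : Subgroup G) where
  es : H7.ES Q z
  card : Nat.card Q = 512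
  nq : ∀ {m q}, Commute m z → q ∈ Q → m * q * m⁻¹ ∈ Q
  hc : ∀ m, Commute m z → (∀ q ∈ Q, Commute m q) → m ∈ Q
  QH : Q ≤ H0
  Hz : ∀ {h}, h ∈ H0 → Commute h z
  nH : ∀ {m h}, Commute m z → h ∈ H0 → m * h * m⁻¹ ∈ H0
  φ : H0 →* Cfsg.PSp 2 F
  sj : Function.Surjective φ
  ker : ∀ h : H0, φ h = 1 ↔ h.1 ∈ Q
  cen : ∀ m, Commute m z → (∀ h ∈ H0, m * h * m⁻¹ * h⁻¹ ∈ Q) → m ∈ Q

/-- the case `Q/⟨z⟩ = 6 ⊕ 2`: `⟨x, y⟩` is the preimage of the fixed space of `H0` -/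
structure Six (z : G) (Q H0 : Subgroup G) (x y : G) : Prop where
  xQ : x ∈ Q
  yQ : y ∈ Q
  xy : ¬ Commute x y
  fx : ∀ h ∈ H0, h * x * h⁻¹ = x ∨ h * x * h⁻¹ = x * z
  fy : ∀ h ∈ H0, h * y * h⁻¹ = y ∨ h * y * h⁻¹ = y * z
  all : ∀ q ∈ Q, (∀ h ∈ H0, h * q * h⁻¹ = q ∨ h * q * h⁻¹ = q * z) →
    q ∈ closure ({x, y} : Set G)
  pf : ∀ f : H0 →* ℤˣ, (∀ h : H0, h.1 ∈ Q → f h = 1) → ∀ h, f h = 1

/-- `H0` has index at most two in `C(z)` -/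
def Ix (z : G) (H0 : Subgroup G) : Prop :=
  ∀ a b, Commute a z → Commute b z → a ∉ H0 → b ∉ H0 → a * b ∈ H0

/-- the result of the fusion analysis -/
def Good (z0 : G) : Prop := ∀ z, IsConj z0 z → ∀ S : St z, ∀ t, IsConj z0 t → Commute t z →
  t ≠ z → ∃ p, p ≠ 0 ∧ hf p p = 0 ∧ Tv (S.π t) p ∧ ∀ q ∈ S.Q, hf (S.ρ q) p = 0 → Commute q t

abbrev W6 := K4 × V × K4
/-- the hermitian form on `⟨e⟩ ⊕ V ⊕ ⟨f⟩` -/
def h6 (x y : W6) : K4 := x.1 * cj y.2.2 + hf x.2.1 y.2.1 + x.2.2 * cj y.1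
def Iso (x : W6) : Prop := x ≠ 0 ∧ h6 x x = 0

/-- a component of the commuting graph of `z^G`, coordinatized by the unitary polar space -/
structure Geo (z : G) where
  pt : W6 → G
  z2 : orderOf z = 2
  cnj : ∀ {x}, Iso x → IsConj z (pt x)
  eq : ∀ {x y}, Iso x → Iso y → (pt x = pt y ↔ ∃ c : K4, y = c • x)
  cm : ∀ {x y}, Iso x → Iso y → (Commute (pt x) (pt y) ↔ h6 x y = 0)
  cl : ∀ {x d}, Iso x → IsConj z d → Commute d (pt x) → ∃ y, Iso y ∧ pt y = d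
  zz : pt (1, 0, 0) = z
  fa : ∀ g, (∀ x, Iso x → Commute g (pt x)) → g = 1
  sq : ∀ m, Commute m z → m * m ∈ closure (pt '' {x | Iso x})

def Geo.G0 {z : G} (Γ : Geo z) : Subgroup G := closure (Γ.pt '' {x | Iso x})

end U6
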