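import Cfsg.Agent.PS.Mod

/-! The outer automorphism group of `PSp₄(3)` has order two. -/

set_option autoImplicit false

namespace U6.O

open Cfsg Subgroup Matrix H9 PS

abbrev W := I4 → K3
abbrev P3 := PSp 2 K3

def B (w v : W) : K3 := w (.inr 0) * v (.inl 0) + w (.inr 1) * v (.inl 1) -
  w (.inl 0) * v (.inr 0) - w (.inl 1) * v (.inr 1)

theorem tvm (w v : W) (c : K3) : (tv w c).1 *ᵥ v = v + (c * B w v) • w := tv_mulVec w v c

theorem B_eq (w v : W) : B w v = w ⬝ᵥ (Matrix.J (Fin 2) K3 *ᵥ v) := by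
  simp [B, Matrix.J, mulVec, dotProduct, Fintype.sum_sum_type, Fin.sum_univ_two, fromBlocks,
    Matrix.one_apply]
  ring

theorem B_sp (g : Sp4 K3) (w v : W) : B (g.1 *ᵥ w) (g.1 *ᵥ v) = B w v := by
  rw [B_eq, B_eq, mulVec_mulVec, dotProduct_mulVec, vecMul_mulVec, ← Matrix.mul_assoc,
    SymplecticGroup.mem_iff'.1 g.2, dotProduct_mulVec]

theorem mext {a b : M4} (h : ∀ v : W, a *ᵥ v = b *ᵥ v) : a = b := by
  ext i j
  simpa using congrFun (h (Pi.single j 1)) i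

theorem tv_conj (g : Sp4 K3) (w : W) (c : K3) : g * tv w c = tv (g.1 *ᵥ w) c * g :=
  Subtype.ext (mext fun v => by
    rw [Submonoid.coe_mul, Submonoid.coe_mul, ← mulVec_mulVec, ← mulVec_mulVec, tvm, tvm, B_sp,
      mulVec_add, mulVec_smul])

/-- the image of a transvection -/
def T (w : W) (c : K3) : P3 := (tv w c : Sp4 K3)

theorem T_conj (g : Sp4 K3) (w : W) (c : K3) :
    (g : P3) * T w c * (g : P3)⁻¹ = T (g.1 *ᵥ w) c := by
  rw [mul_inv_eq_iff_eq_mul, T, T, ← QuotientGroup.mk_mul, tv_conj, QuotientGroup.mk_mul]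

def vc (a : K3 × K3 × K3 × K3) : W := Sum.elim ![a.1, a.2.1] ![a.2.2.1, a.2.2.2]

theorem ex_vc (v : W) : ∃ a, vc a = v :=
  ⟨(v (.inl 0), v (.inl 1), v (.inr 0), v (.inr 1)), by
    ext i; rcases i with i | i <;> fin_cases i <;> rfl⟩

instance (priority := high) decW : DecidableEq W := fun u v => decidable_of_iff
  (u (.inl 0) = v (.inl 0) ∧ u (.inl 1) = v (.inl 1) ∧ u (.inr 0) = v (.inr 0) ∧
    u (.inr 1) = v (.inr 1)) ⟨fun ⟨a, b, c, d⟩ => by
      ext i; rcases i with i | i <;> fin_cases i <;> assumption, fun h => by simp [h]⟩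

def e1 : W := vc (1, 0, 0, 0)
def e2 : W := vc (0, 1, 0, 0)
def f1 : W := vc (0, 0, 1, 0)
def f2 : W := vc (0, 0, 0, 1)

theorem dec1 : ∀ a b (c : K3) s, (∀ x ∈ [e1, e2, f1, f2],
    x + (1 * B (vc a) x) • vc a = sg s • (x + (c * B (vc b) x) • vc b)) →
      vc a = 0 ∨ c = 1 ∧ (vc a = vc b ∨ vc a = -vc b) := by decide +kernel

theorem T_inj {u v : W} {c : K3} (hu : u ≠ 0) (h : T u 1 = T v c) : c = 1 ∧ (u = v ∨ u = -v) := by
  obtain ⟨s, e⟩ := mk_eq.1 h
  obtain ⟨a, rfl⟩ := ex_vc u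
  obtain ⟨b, rfl⟩ := ex_vc v
  refine (dec1 a b c s fun x _ => ?_).resolve_left hu
  rw [← tvm, ← tvm, e, smul_mulVec]

theorem B_self (v : W) : B v v = 0 := by rw [B]; ring
theorem B_smul (c : K3) (u v : W) : B (c • u) v = c * B u v := by simp [B]; ring
theorem B_smul' (c : K3) (u v : W) : B u (c • v) = c * B u v := by simp [B]; ring
theorem B_add (u v w : W) : B (u + v) w = B u w + B v w := by simp [B]; ring
theorem B_add' (u v w : W) : B w (u + v) = B w u + B w v := by simp [B]; ring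
theorem B_skew (u v : W) : B u v = - B v u := by simp [B]; ring

theorem T_smul {s : K3} (hs : s ≠ 0) (v : W) (c : K3) : T (s • v) c = T v c := by
  have : s * s = 1 := by revert s; decide
  refine congrArg _ (Subtype.ext (mext fun x => ?_))
  rw [tvm, tvm, B_smul, smul_smul]
  congr 2
  linear_combination c * B v x * this

theorem T_add (v : W) (c d : K3) : T v c * T v d = T v (c + d) := by
  refine congrArg (QuotientGroup.mk (s := center (Sp4 K3))) (Subtype.ext (mext fun x => ?_))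
  rw [Submonoid.coe_mul, ← mulVec_mulVec, tvm, tvm, tvm, B_add', B_smul', B_self, add_assoc,
    ← add_smul]
  congr 2
  ring

theorem T_zero (v : W) : T v 0 = 1 :=
  congrArg (QuotientGroup.mk (s := center (Sp4 K3))) (Subtype.ext (by simp [tv]))

theorem T_zero' (c : K3) : T 0 c = 1 :=
  congrArg (QuotientGroup.mk (s := center (Sp4 K3))) (Subtype.ext (by simp [tv]))

theorem T_inv (v : W) (c : K3) : (T v c)⁻¹ = T v (-c) :=
  inv_eq_of_mul_eq_one_right (by rw [T_add, add_neg_cancel, T_zero])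

theorem dec2 : ∀ a b, (vc b = vc b + (1 * B (vc a) (vc b)) • vc a ∨
    vc b = -(vc b + (1 * B (vc a) (vc b)) • vc a)) → B (vc a) (vc b) = 0 := by decide +kernel

theorem T_comm {u v : W} (hv : v ≠ 0) : Commute (T u 1) (T v 1) ↔ B u v = 0 := by
  have e : T u 1 * T v 1 * (T u 1)⁻¹ = T (v + (1 * B u v) • u) 1 := by
    rw [← tvm]; exact T_conj _ _ _
  rw [commute_iff_eq, ← mul_inv_eq_iff_eq_mul, e]
  refine ⟨fun h => ?_, fun h => by simp [h]⟩
  obtain ⟨a, rfl⟩ := ex_vc u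
  obtain ⟨b, rfl⟩ := ex_vc v
  exact dec2 a b (T_inj hv h.symm).2

theorem dec3 {a b c d : W} (h1 : e1 = a ∨ e1 = -a) (h2 : e2 = b ∨ e2 = -b)
    (h3 : f1 = c ∨ f1 = -c) (h4 : f2 = d ∨ f2 = -d) :
    (e1 + e2 = a + b ∨ e1 + e2 = -(a + b)) → (e1 + f1 = a + c ∨ e1 + f1 = -(a + c)) →
    (e1 + f2 = a + d ∨ e1 + f2 = -(a + d)) →
    ∃ s, a = sg s • e1 ∧ b = sg s • e2 ∧ c = sg s • f1 ∧ d = sg s • f2 := by
  rw [← neg_eq_iff_eq_neg] at h1 h2 h3 h4
  rcases h1 with rfl | rfl <;> rcases h2 with rfl | rfl <;> rcases h3 with rfl | rfl <;>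
    rcases h4 with rfl | rfl <;> decide +kernel

theorem bext {a b : M4} (h1 : a *ᵥ e1 = b *ᵥ e1) (h2 : a *ᵥ e2 = b *ᵥ e2)
    (h3 : a *ᵥ f1 = b *ᵥ f1) (h4 : a *ᵥ f2 = b *ᵥ f2) : a = b := by
  have k : e1 = Pi.single (.inl 0) 1 ∧ e2 = Pi.single (.inl 1) 1 ∧ f1 = Pi.single (.inr 0) 1 ∧
      f2 = Pi.single (.inr 1) 1 := by decide +kernel
  rw [k.1] at h1; rw [k.2.1] at h2; rw [k.2.2.1] at h3; rw [k.2.2.2] at h4
  ext i j
  rcases j with j | j <;> fin_cases j
  exacts [by simpa using congrFun h1 i, by simpa using congrFun h2 i,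
    by simpa using congrFun h3 i, by simpa using congrFun h4 i]

theorem cen_T {g : P3} (h : ∀ v, g * T v 1 * g⁻¹ = T v 1) : g = 1 := by
  obtain ⟨g, rfl⟩ := QuotientGroup.mk_surjective g
  have k : ∀ v, v ≠ 0 → v = g.1 *ᵥ v ∨ v = -(g.1 *ᵥ v) := fun v hv =>
    (T_inj hv ((h v).symm.trans (T_conj g v 1))).2
  obtain ⟨s, h1, h2, h3, h4⟩ := dec3 (k _ (by decide)) (k _ (by decide))
    (k _ (by decide)) (k _ (by decide)) (mulVec_add g.1 _ _ ▸ k _ (by decide))
    (mulVec_add g.1 _ _ ▸ k _ (by decide)) (mulVec_add g.1 _ _ ▸ k _ (by decide))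
  refine mk_eq.2 (⟨s, bext ?_ ?_ ?_ ?_⟩ : ∃ c, g.1 = sg c • (1 : Sp4 K3).1) <;>
    simp [smul_mulVec, *]

theorem center_P3 : center P3 = ⊥ :=
  eq_bot_iff.2 fun g hg => cen_T fun v => by
    rw [← mem_center_iff.1 hg, mul_inv_cancel_right]

def run (S : List W) : List (ℕ × ℕ) → List W
  | [] => S
  | p :: L => run ((S.getD p.2 0 + (1 * B (S.getD p.1 0) (S.getD p.2 0)) • S.getD p.1 0) :: S) L

def LL : List (ℕ × ℕ) := [(0, 1), (0, 2), (0, 6), (0, 3), (0, 2), (0, 3), (0, 3), (0, 2), (0, 2),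
  (0, 12), (0, 3), (0, 2), (0, 2), (0, 4), (0, 5), (0, 4), (0, 8), (0, 3), (0, 2), (0, 2), (0, 6),
  (0, 11), (0, 3), (0, 3), (0, 7), (0, 6), (0, 6), (0, 11), (0, 21), (0, 2), (0, 10), (0, 3),
  (0, 14), (0, 4), (0, 6)]

theorem dec4 : ∀ a, vc a = 0 ∨ vc a ∈ run [e1, f1, e2, f2, e1 + e2] LL ∨
    (-1 : K3) • vc a ∈ run [e1, f1, e2, f2, e1 + e2] LL := by decide +kernel

theorem run_fix (α : MulAut P3) (L : List (ℕ × ℕ)) : ∀ S : List W,
    (∀ s ∈ S, α (T s 1) = T s 1) → ∀ s ∈ run S L, α (T s 1) = T s 1 := by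
  induction L with
  | nil => exact fun S h => h
  | cons p L ih =>
    intro S h
    have k : ∀ i, α (T (S.getD i 0) 1) = T (S.getD i 0) 1 := fun i => by
      rw [List.getD_eq_getElem?_getD]
      cases e : S[i]? with
      | none => simp [T_zero']
      | some x => exact h x (List.mem_of_getElem? e)
    refine ih _ fun s hs => ?_
    rcases List.mem_cons.1 hs with rfl | hs
    · rw [← tvm, ← T_conj, map_mul, map_mul, map_inv, k]
      exact congrArg₂ (fun a b => a * _ * b⁻¹) (k p.1) (k p.1)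
    · exact h s hs

theorem eq_one_of_fix (α : MulAut P3) (h : ∀ s ∈ [e1, f1, e2, f2, e1 + e2], α (T s 1) = T s 1) :
    α = 1 := by
  have k : ∀ v, α (T v 1) = T v 1 := fun v => by
    obtain ⟨a, rfl⟩ := ex_vc v
    rcases dec4 a with e | e | e
    · simp [e, T_zero']
    · exact run_fix α _ _ h _ e
    · simpa only [T_smul (show (-1 : K3) ≠ 0 by decide)] using run_fix α _ _ h _ e
  ext g
  refine (inv_mul_eq_one.1 (cen_T fun v => ?_)).symm
  obtain ⟨g, rfl⟩ := QuotientGroup.mk_surjective g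
  have := k (g.1 *ᵥ v)
  rw [← T_conj, map_mul, map_mul, map_inv, k] at this
  calc _ = (g : P3)⁻¹ * (α g * T v 1 * (α g)⁻¹) * g := by rw [MulAut.one_apply]; group
    _ = _ := by rw [this]; group

theorem ex_sg {x : K3} (h : x ≠ 0) (y : K3) (hy : y ≠ 0) : ∃ s : K3, s ≠ 0 ∧ s * x = y := by
  revert x y; decide

theorem dec5 : ∀ a, B e1 (vc a) = 0 → B e2 (vc a) = 0 → B (vc a) f1 = -1 → B (vc a) f2 = -1 →
    vc a = e1 + e2 := by decide +kernel

/-- an automorphism preserving the class of `T e1 1` is inner -/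
theorem inner_of (α : MulAut P3) {v : W} (hv : α (T e1 1) = T v 1) :
    α ∈ (MulAut.conj : P3 →* _).range := by
  have nz : ∀ {u w}, u ≠ 0 → α (T u 1) = T w 1 → w ≠ 0 := fun hu e e0 => by
    rw [e0, T_zero', map_eq_one_iff _ α.injective, ← T_zero 0] at e
    exact absurd (T_inj hu e).1 (by decide)
  have ex : ∀ u, u ≠ 0 → ∃ w, α (T u 1) = T w 1 := fun u hu => by
    obtain ⟨g, hg⟩ := exists_sp_smul u hu
    obtain ⟨k, hk⟩ := QuotientGroup.mk_surjective (α (g : P3))⁻¹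
    refine ⟨k.1 *ᵥ v, ?_⟩
    rw [← T_conj, hk, ← hv, show e1 = g.1 *ᵥ u by rw [hg]; decide, ← T_conj]
    simp [mul_assoc]
  have pp : ∀ {u u' w w'}, u' ≠ 0 → α (T u 1) = T w 1 → α (T u' 1) = T w' 1 →
      (B w w' = 0 ↔ B u u' = 0) := fun hu e e' => by
    rw [← T_comm hu, ← T_comm (nz hu e'), ← e, ← e']
    exact ⟨fun h => h.of_map α.injective, fun h => h.map α⟩
  have sc : ∀ {u w} {s : K3}, s ≠ 0 → α (T u 1) = T w 1 → α (T u 1) = T (s • w) 1 :=
    fun hs e => by rw [T_smul hs, e]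
  obtain ⟨v2, h2⟩ := ex f1 (by decide)
  obtain ⟨v3, h3⟩ := ex e2 (by decide)
  obtain ⟨v4, h4⟩ := ex f2 (by decide)
  obtain ⟨v5, h5⟩ := ex (e1 + e2) (by decide)
  have m1 : (-1 : K3) ≠ 0 := by decide
  obtain ⟨s, hs, b12⟩ := ex_sg ((pp (by decide) hv h2).not.2 (by decide)) _ m1
  replace h2 := sc hs h2
  rw [← B_smul'] at b12
  generalize s • v2 = v2 at h2 b12
  obtain ⟨s, hs, b52⟩ := ex_sg ((pp (by decide) h5 h2).not.2 (by decide)) _ m1
  replace h5 := sc hs h5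
  rw [← B_smul] at b52
  generalize s • v5 = v5 at h5 b52
  obtain ⟨s, hs, b54⟩ := ex_sg ((pp (by decide) h5 h4).not.2 (by decide)) _ m1
  replace h4 := sc hs h4
  rw [← B_smul'] at b54
  generalize s • v4 = v4 at h4 b54
  obtain ⟨s, hs, b34⟩ := ex_sg ((pp (by decide) h3 h4).not.2 (by decide)) _ m1
  replace h3 := sc hs h3
  rw [← B_smul] at b34
  generalize s • v3 = v3 at h3 b34
  have b13 := (pp (by decide) hv h3).2 (by decide)
  have b14 := (pp (by decide) hv h4).2 (by decide)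
  have b23 := (pp (by decide) h2 h3).2 (by decide)
  have b24 := (pp (by decide) h2 h4).2 (by decide)
  have b15 := (pp (by decide) hv h5).2 (by decide)
  have b35 := (pp (by decide) h3 h5).2 (by decide)
  let M : M4 := (Matrix.of (Sum.elim ![v, v3] ![v2, v4]))ᵀ
  have hM : M ∈ symplecticGroup (Fin 2) K3 := by
    rw [SymplecticGroup.mem_iff']
    ext i j
    have : (Mᵀ * Matrix.J (Fin 2) K3 * M) i j =
        B (Sum.elim ![v, v3] ![v2, v4] i) (Sum.elim ![v, v3] ![v2, v4] j) := by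
      rw [B_eq, Matrix.mul_assoc]; rfl
    rw [this]
    have c1 := B_skew v2 v
    have c2 := B_skew v3 v
    have c3 := B_skew v4 v
    have c4 := B_skew v3 v2
    have c5 := B_skew v4 v2
    have c6 := B_skew v4 v3
    rcases i with i | i <;> rcases j with j | j <;> fin_cases i <;> fin_cases j <;>
      simp [Matrix.J, B_self, *]
  let g : Sp4 K3 := ⟨M, hM⟩
  have k : e1 = Pi.single (.inl 0) 1 ∧ e2 = Pi.single (.inl 1) 1 ∧ f1 = Pi.single (.inr 0) 1 ∧
      f2 = Pi.single (.inr 1) 1 := by decide +kernel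
  have g1 : g.1 *ᵥ e1 = v := by rw [k.1, mulVec_single_one]; rfl
  have g2 : g.1 *ᵥ f1 = v2 := by rw [k.2.2.1, mulVec_single_one]; rfl
  have g3 : g.1 *ᵥ e2 = v3 := by rw [k.2.1, mulVec_single_one]; rfl
  have g4 : g.1 *ᵥ f2 = v4 := by rw [k.2.2.2, mulVec_single_one]; rfl
  have g5 : g.1 *ᵥ (e1 + e2) = v5 := by
    obtain ⟨a, ha⟩ := ex_vc ((g⁻¹).1 *ᵥ v5)
    have : g.1 *ᵥ vc a = v5 := by
      rw [ha, mulVec_mulVec, ← Submonoid.coe_mul, mul_inv_cancel]; simp
    rw [← this, ← g1, B_sp] at b15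
    rw [← this, ← g3, B_sp] at b35
    rw [← this, ← g2, B_sp] at b52
    rw [← this, ← g4, B_sp] at b54
    rw [← dec5 a b15 b35 b52 b54, this]
  refine ⟨g, (inv_mul_eq_one.1 (eq_one_of_fix _ ?_))⟩
  simp only [List.forall_mem_cons, MulAut.mul_apply, MulAut.inv_apply, MulEquiv.symm_apply_eq,
    MulAut.conj_apply, T_conj, g1, g2, g3, g4, g5]
  exact ⟨hv, h2, h3, h4, h5, by simp⟩

def D : M4 := fromBlocks 1 0 0 (-1)

theorem DD : D * D = 1 := by decide +kernel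
theorem DJ : D * Matrix.J (Fin 2) K3 * D = -Matrix.J (Fin 2) K3 := by decide +kernel
theorem Dt : Dᵀ = D := by decide +kernel

def d0 : Sp4 K3 →* Sp4 K3 := MonoidHom.mk' (fun g => ⟨D * g.1 * D, by
    have := SymplecticGroup.mem_iff.1 g.2
    rw [SymplecticGroup.mem_iff, transpose_mul, transpose_mul, Dt]
    calc _ = D * (g.1 * (D * Matrix.J (Fin 2) K3 * D) * g.1ᵀ) * D := by simp only [mul_assoc]
      _ = _ := by rw [DJ, mul_neg, neg_mul, this, mul_neg, neg_mul, DJ, neg_neg]⟩)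
  fun a b => Subtype.ext (by
    change D * (a.1 * b.1) * D = D * a.1 * D * (D * b.1 * D)
    calc _ = D * a.1 * (D * D) * b.1 * D := by rw [DD]; simp only [mul_assoc, one_mul]
      _ = _ := by simp only [mul_assoc])

theorem d0d0 (g : Sp4 K3) : d0 (d0 g) = g := Subtype.ext (by
  change D * (D * g.1 * D) * D = g.1
  calc _ = (D * D) * g.1 * (D * D) := by simp only [mul_assoc]
    _ = _ := by rw [DD]; simp)

/-- the outer automorphism -/
def δ : MulAut P3 :=
  H2.quotCenterCongr (MonoidHom.toMulEquiv d0 d0 (MonoidHom.ext d0d0) (MonoidHom.ext d0d0))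

theorem δ_T (v : W) (c : K3) : δ (T v c) = T (D *ᵥ v) (-c) := by
  refine congrArg (QuotientGroup.mk (s := center (Sp4 K3))) (Subtype.ext (mext fun x => ?_))
  change (D * (tv v c).1 * D) *ᵥ x = _
  have : B (D *ᵥ v) x = -B v (D *ᵥ x) := by
    simp [B, D, mulVec, dotProduct, Fintype.sum_sum_type, Fin.sum_univ_two, Matrix.one_apply]
    ring
  rw [← mulVec_mulVec, ← mulVec_mulVec, tvm, tvm, mulVec_add, mulVec_mulVec, DD, one_mulVec,
    mulVec_smul, this, neg_mul_neg]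

theorem toP_zz (c : K3) : HC.toP (HC.zz c) = T e1 (-c) :=
  congrArg (QuotientGroup.mk (s := center (Sp4 K3))) (Subtype.ext
    ((by decide +kernel : ∀ c : K3, (HC.zz c).mat = (tv e1 (-c)).1) c))

theorem syl_le (Px : Sylow 3 P3) : ∃ g : P3, ∀ y ∈ (Px : Subgroup P3),
    g * y * g⁻¹ ∈ (HC.U K3).map HC.toP := by
  have hp : 3 ∣ Nat.card K3 := by simp
  have h2 : (2 : K3) ≠ 0 := by decide
  obtain ⟨Q, hQ⟩ := Sylow.mapSurjective_surjective
    (QuotientGroup.mk'_surjective (center (Sp4 K3))) 3 Px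
  have hQ' : (Px : Subgroup P3) = (Q : Subgroup (Sp4 K3)).map (QuotientGroup.mk' _) := by
    rw [← hQ, Sylow.coe_mapSurjective]
  obtain ⟨v, hv, hfix⟩ := exists_fixed_vec hp Q.isPGroup'
    ((symplecticGroup (Fin 2) K3).subtype.comp (Q : Subgroup (Sp4 K3)).subtype)
  obtain ⟨g, hg⟩ := exists_sp_smul v hv
  have h1 : ∀ q ∈ (Q : Subgroup (Sp4 K3)), ∃ k, HC.toSp k = g * q * g⁻¹ := by
    intro q hq
    have e : (g * q * g⁻¹).1 *ᵥ Pi.single (.inl 0) 1 = Pi.single (.inl 0) 1 := by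
      conv_lhs => rw [← hg]
      rw [mulVec_mulVec, ← Submonoid.coe_mul, inv_mul_cancel_right, Submonoid.coe_mul,
        ← mulVec_mulVec]
      exact (congrArg _ (hfix ⟨q, hq⟩)).trans hg
    rw [mulVec_single_one] at e
    exact HC.exists_toSp _ (by simpa using congrFun e (.inl 0)) (by simpa using congrFun e (.inl 1))
      (by simpa using congrFun e (.inr 0)) (by simpa using congrFun e (.inr 1))
  let φ : HC K3 →* P3 := (MulAut.conj ((g : P3))⁻¹).toMonoidHom.comp HC.toP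
  have hφ : Function.Injective φ := (MulAut.conj _).injective.comp (HC.toP_injective h2)
  have h3 : (Px : Subgroup P3) ≤ φ.range := by
    rw [hQ']
    rintro _ ⟨q, hq, rfl⟩
    obtain ⟨k, hk⟩ := h1 q hq
    refine ⟨k, ?_⟩
    change (g : P3)⁻¹ * ((HC.toSp k : Sp4 K3) : P3) * (g : P3)⁻¹⁻¹ = q
    rw [hk]
    simp [mul_assoc]
  obtain ⟨k, hk⟩ := HC.exists_conj_le_U hp (Px.isPGroup'.comap_of_injective φ hφ)
  refine ⟨(HC.toP k)⁻¹ * g, fun y hy => ?_⟩
  obtain ⟨r, rfl⟩ := h3 hy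
  exact ⟨_, hk r hy, by simp [φ, mul_assoc]⟩

theorem aut_T (α : MulAut P3) : ∃ v c, c ≠ 0 ∧ α (T e1 1) = T v c := by
  have h2 : (2 : K3) ≠ 0 := by decide
  let S := (HC.U K3).map HC.toP
  have hS : IsPGroup 3 S := (HC.isPGroup_U (n := 1) (by simp)).map _
  obtain ⟨Px, hP⟩ := (hS.map α.toMonoidHom).exists_le_sylow
  obtain ⟨g, hg⟩ := syl_le Px
  let β : MulAut P3 := MulAut.conj g * α
  have le : S.map β.toMonoidHom ≤ S := by
    rintro _ ⟨y, hy, rfl⟩
    exact hg _ (hP ⟨y, hy, rfl⟩)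
  have eq : S.map β.toMonoidHom = S := eq_of_le_of_card_ge le
    (Nat.card_congr (S.equivMapOfInjective _ β.injective).toEquiv).le
  have t : T e1 1 = HC.toP (HC.zz (-1)) := by rw [toP_zz, neg_neg]
  obtain ⟨y, hy, e⟩ := le ⟨T e1 1, ⟨_, (⟨rfl, rfl, rfl⟩ : HC.zz (-1) ∈ HC.U K3), t.symm⟩, rfl⟩
  have h6 := HC.eq_zz h2 hy fun w hw => HC.toP_injective h2 (by
    obtain ⟨_, ⟨u, -, rfl⟩, eu⟩ := eq.ge ⟨w, hw, rfl⟩
    rw [map_mul, map_mul, e, ← eu, t, ← map_mul, ← map_mul, ← map_mul, ← map_mul, HC.zz_comm])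
  rw [h6, toP_zz] at e
  obtain ⟨k, hk⟩ := QuotientGroup.mk_surjective g⁻¹
  have e' : α (T e1 1) = T (k.1 *ᵥ e1) (-y.z) := by
    rw [← T_conj, hk, e]; simp [β, mul_assoc]
  refine ⟨_, _, fun h => ?_, e'⟩
  rw [h, T_zero, map_eq_one_iff _ α.injective, ← T_zero 0] at e'
  exact absurd (T_inj (by decide) e').1 (by decide)

theorem index_P3 : (MulAut.conj : P3 →* _).range.index = 2 := by
  refine index_eq_two_iff'.2 ⟨δ, fun b => ?_⟩
  have nd : δ ∉ (MulAut.conj : P3 →* _).range := by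
    rintro ⟨g, hg⟩
    obtain ⟨g, rfl⟩ := QuotientGroup.mk_surjective g
    have := δ_T e1 1
    rw [← hg, MulAut.conj_apply, T_conj] at this
    refine absurd (T_inj (fun h => ?_) this).1 (by decide)
    have := B_sp g e1 f1
    rw [h] at this
    simp only [B, Pi.zero_apply, zero_mul, add_zero, sub_zero] at this
    exact absurd this (by decide)
  by_cases hb : b ∈ (MulAut.conj : P3 →* _).range
  · exact Or.inr ⟨hb, fun h => nd (by simpa using mul_mem h (inv_mem hb))⟩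
  · refine Or.inl ⟨?_, hb⟩
    obtain ⟨v, c, hc, e⟩ := aut_T b
    rcases (by decide : ∀ c : K3, c ≠ 0 → c = 1 ∨ c = -1) c hc with rfl | rfl
    · exact absurd (inner_of b e) hb
    · exact inner_of _ (v := D *ᵥ v) (by rw [MulAut.mul_apply, e, δ_T, neg_neg])

variable {F : Type*} [Field F] [Fintype F]

theorem ex_iso (hF : Fintype.card F = 3) : Nonempty (P3 ≃* PSp 2 F) :=
  ⟨H2.quotCenterCongr (spCongr (FiniteField.ringEquivOfCardEq (by rw [ZMod.card, hF])))⟩

theorem center_P (hF : Fintype.card F = 3) {g : PSp 2 F} (h : ∀ x, x * g = g * x) : g = 1 := by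
  obtain ⟨e⟩ := ex_iso hF
  obtain ⟨g, rfl⟩ := e.surjective g
  have : g ∈ center P3 := mem_center_iff.2 fun x => e.injective (by rw [map_mul, map_mul, h])
  rw [center_P3, mem_bot] at this
  rw [this, map_one]

theorem index_P (hF : Fintype.card F = 3) : (MulAut.conj : PSp 2 F →* _).range.index = 2 := by
  obtain ⟨e⟩ := ex_iso hF
  refine (index_comap_of_surjective _ (f := (MulAut.congr e).toMonoidHom)
    (MulAut.congr e).surjective).symm.trans (Eq.trans ?_ index_P3)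
  congr 1
  ext a
  refine ⟨fun ⟨g, hg⟩ => ⟨e.symm g, MulEquiv.ext fun x => ?_⟩, ?_⟩
  · have := DFunLike.congr_fun hg (e x)
    simp at this
    simp [← e.injective.eq_iff, this]
  · rintro ⟨g, rfl⟩
    exact ⟨e g, MulEquiv.ext fun x => by simp⟩

end U6.O
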