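import Cfsg.Agent.U6.Defs

/-! The unitary space `F₄⁴`. -/

set_option autoImplicit false
set_option maxRecDepth 100000
open Subgroup

namespace U6

def all4 : List K4 := [⟨0⟩, ⟨1⟩, ⟨2⟩, ⟨3⟩]
theorem mem_all4 : ∀ a : K4, a ∈ all4 := fun ⟨a⟩ => by revert a; decide
instance (priority := high) decAll4 (p : K4 → Prop) [DecidablePred p] : Decidable (∀ x, p x) :=
  decidable_of_iff (∀ x ∈ all4, p x) ⟨fun h x => h x (mem_all4 x), fun h x _ => h x⟩
instance (priority := high) decEx4 (p : K4 → Prop) [DecidablePred p] : Decidable (∃ x, p x) :=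
  decidable_of_iff (∃ x ∈ all4, p x) ⟨fun ⟨x, _, h⟩ => ⟨x, h⟩, fun ⟨x, h⟩ => ⟨x, mem_all4 x, h⟩⟩
def allV : List V := all4.flatMap fun a => all4.flatMap fun b => all4.flatMap fun c =>
  all4.map fun d => (a, b, c, d)
theorem mem_allV (x : V) : x ∈ allV := by
  simp only [allV, List.mem_flatMap, List.mem_map]
  exact ⟨_, mem_all4 x.1, _, mem_all4 x.2.1, _, mem_all4 x.2.2.1, _, mem_all4 x.2.2.2, rfl⟩
instance (priority := high) decAllV (p : V → Prop) [DecidablePred p] : Decidable (∀ x, p x) :=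
  decidable_of_iff (∀ x ∈ allV, p x) ⟨fun h x => h x (mem_allV x), fun h x _ => h x⟩
instance (priority := high) decExV (p : V → Prop) [DecidablePred p] : Decidable (∃ x, p x) :=
  decidable_of_iff (∃ x ∈ allV, p x) ⟨fun ⟨x, _, h⟩ => ⟨x, h⟩, fun ⟨x, h⟩ => ⟨x, mem_allV x, h⟩⟩

theorem K2 : ∀ a : K4, a + a = 0 := by decide +kernel
theorem K4c : ∀ a : K4, a = 0 ∨ a = 1 ∨ a = ω ∨ a = ω + 1 := by decide +kernel
theorem cj_add : ∀ a b : K4, cj (a + b) = cj a + cj b := by decide +kernel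
theorem cj_mul : ∀ a b : K4, cj (a * b) = cj a * cj b := by decide +kernel
@[simp] theorem cj_cj : ∀ a : K4, cj (cj a) = a := by decide +kernel
@[simp] theorem cj_zero : cj 0 = 0 := by decide +kernel
@[simp] theorem cj_one : cj 1 = 1 := by decide +kernel
@[simp] theorem cj_eq_zero : ∀ {a : K4}, cj a = 0 ↔ a = 0 := by decide +kernel
theorem cj_ω : cj ω = ω + 1 := by decide +kernel
theorem ωω : ω * ω = ω + 1 := by decide +kernel
theorem ω0 : ω ≠ 0 := by decide +kernel
theorem ω1 : ω ≠ 1 := by decide +kernel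
theorem mul_cj : ∀ a : K4, a ≠ 0 → a * cj a = 1 := by decide +kernel
theorem cj_fix : ∀ a : K4, cj a = a ↔ a = 0 ∨ a = 1 := by decide +kernel
theorem tr01 : ∀ a : K4, a + cj a = 0 ∨ a + cj a = 1 := by decide +kernel
theorem tr0 : ∀ a : K4, a + cj a = 0 ↔ a = 0 ∨ a = 1 := by decide +kernel
theorem tr_ω : ∀ a : K4, a + cj a = 0 → ω * a + cj (ω * a) = 0 → a = 0 := by decide +kernel

theorem V2 (x : V) : x + x = 0 := by
  obtain ⟨a, b, c, d⟩ := x; simp only [Prod.mk_add_mk, K2]; rfl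
theorem V2' (x y : V) : x + (x + y) = y := by rw [← add_assoc, V2, zero_add]
theorem V2r (x y : V) : y + x + x = y := by rw [add_assoc, V2, add_zero]
theorem eq_of_add {x y : V} (h : x + y = 0) : x = y := by rw [← V2' y x, add_comm y x, h, add_zero]
theorem cardV : Nat.card V = 256 := by
  rw [Nat.card_prod, Nat.card_prod, Nat.card_prod, Nat.card_eq_fintype_card, H2.F4.card_F4]
theorem ωv (x : V) : ω • ω • x = ω • x + x := by rw [smul_smul, ωω, add_smul, one_smul]

theorem hf_addl (x y w : V) : hf (x + y) w = hf x w + hf y w := by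
  simp only [hf, Prod.fst_add, Prod.snd_add]; ring
theorem hf_addr (x y w : V) : hf w (x + y) = hf w x + hf w y := by
  simp only [hf, Prod.fst_add, Prod.snd_add, cj_add]; ring
theorem hf_smull (c : K4) (x w : V) : hf (c • x) w = c * hf x w := by
  simp only [hf, Prod.smul_fst, Prod.smul_snd, smul_eq_mul]; ring
theorem hf_smulr (c : K4) (x w : V) : hf w (c • x) = cj c * hf w x := by
  simp only [hf, Prod.smul_fst, Prod.smul_snd, smul_eq_mul, cj_mul]; ring
theorem hf_cj (x y : V) : hf y x = cj (hf x y) := by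
  simp only [hf, cj_add, cj_mul, cj_cj]; ring
@[simp] theorem hf0l (x : V) : hf 0 x = 0 := by simp [hf]
@[simp] theorem hf0r (x : V) : hf x 0 = 0 := by simp [hf]
theorem hf_symm {x y : V} (h : hf x y = 0) : hf y x = 0 := by rw [hf_cj, h, cj_zero]
theorem hf_comm {x y : V} : hf x y = 0 ↔ hf y x = 0 := ⟨hf_symm, hf_symm⟩
theorem hf_self (x : V) : hf x x = 0 ∨ hf x x = 1 := (cj_fix _).1 (hf_cj x x).symm
theorem hf_nd {x : V} (h : ∀ y, hf x y = 0) : x = 0 := by
  have h1 := h (1, 0, 0, 0); have h2 := h (0, 1, 0, 0)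
  have h3 := h (0, 0, 1, 0); have h4 := h (0, 0, 0, 1)
  simp [hf] at h1 h2 h3 h4
  exact Prod.ext h1 (Prod.ext h2 (Prod.ext h3 h4))
theorem hf_ext {x y : V} (h : ∀ w, hf x w = hf y w) : x = y :=
  eq_of_add (hf_nd fun w => by rw [hf_addl, h, K2])
theorem ex_hf {p : V} (h : p ≠ 0) (c : K4) : ∃ x, hf x p = c := by
  obtain ⟨y, hy⟩ := not_forall.1 (mt hf_nd h)
  have : hf y p ≠ 0 := fun e => hy (hf_symm e)
  exact ⟨(c * (hf y p)⁻¹) • y, by rw [hf_smull, inv_mul_cancel_right₀ this]⟩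

/-- the alternating form of `Q/⟨z⟩` -/
def bf (x y : V) : K4 := hf x y + hf y x
theorem bf_eq (x y : V) : bf x y = hf x y + cj (hf x y) := by rw [bf, hf_cj x y]
theorem bf01 (x y : V) : bf x y = 0 ∨ bf x y = 1 := by rw [bf_eq]; exact tr01 _
theorem bf_comm (x y : V) : bf x y = bf y x := add_comm _ _
theorem bf_addl (x y w : V) : bf (x + y) w = bf x w + bf y w := by
  simp only [bf, hf_addl, hf_addr]; ring
theorem bf_addr (x y w : V) : bf w (x + y) = bf w x + bf w y := by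
  simp only [bf, hf_addl, hf_addr]; ring
theorem bf_self (x : V) : bf x x = 0 := K2 _
theorem bf_of_hf {x y : V} (h : hf x y = 0) : bf x y = 0 := by rw [bf, h, hf_symm h, add_zero]
theorem hf_of_bf {x y : V} (h : bf x y = 0) (h' : bf (ω • x) y = 0) : hf x y = 0 := by
  rw [bf_eq] at h h'; rw [hf_smull] at h'; exact tr_ω _ h h'
theorem bf_nd {x : V} (h : ∀ y, bf x y = 0) : x = 0 := hf_nd fun y => hf_symm
  (hf_of_bf (by rw [bf_comm, h]) (by rw [bf_comm, h]))
theorem qf_add (x y : V) : hf (x + y) (x + y) = hf x x + hf y y + bf x y := by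
  simp only [bf, hf_addl, hf_addr]; ring
theorem qf_smul {c : K4} (h : c ≠ 0) (x : V) : hf (c • x) (c • x) = hf x x := by
  rw [hf_smull, hf_smulr, ← mul_assoc, mul_cj c h, one_mul]
theorem perp2 {a b : V} (h : ∀ y, bf a y = 0 → bf b y = 0) : b = 0 ∨ b = a := by
  by_contra hc
  push Not at hc
  obtain ⟨y, hy⟩ := not_forall.1 (mt bf_nd hc.1)
  obtain ⟨w, hw⟩ := not_forall.1 (mt bf_nd fun e : b + a = 0 => hc.2 (eq_of_add e))
  have ay := (bf01 a y).resolve_left fun e => hy (h y e)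
  have by' := (bf01 b y).resolve_left hy
  rw [bf_addl] at hw
  rcases bf01 a w with e | e
  · exact hw (by rw [h w e, e, add_zero])
  · have := h (y + w) (by rw [bf_addr, ay, e, K2])
    rw [bf_addr, by'] at this
    exact hw (by rw [e, add_comm, this])

/-! ### Semilinear isometries -/

def SL (γ : Equiv.Perm V) : Prop := Lin γ ∨ ALin γ
variable {γ δ : Equiv.Perm V}
theorem Lin.smul (h : Lin γ) (c : K4) (x : V) : γ (c • x) = c • γ x := hf_ext fun w => by
  obtain ⟨w, rfl⟩ := γ.surjective w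
  rw [hf_smull, h, h, hf_smull]
theorem ALin.smul (h : ALin γ) (c : K4) (x : V) : γ (c • x) = cj c • γ x := hf_ext fun w => by
  obtain ⟨w, rfl⟩ := γ.surjective w
  rw [hf_smull, h, h, hf_smull, cj_mul]
theorem SL.add (h : SL γ) (x y : V) : γ (x + y) = γ x + γ y := hf_ext fun w => by
  obtain ⟨w, rfl⟩ := γ.surjective w
  rcases h with h | h <;> rw [hf_addl, h, h, h, hf_addl]
  rw [cj_add]
theorem SL.zero (h : SL γ) : γ 0 = 0 := by rw [← V2 0, h.add, V2, V2]
theorem SL.eq0 (h : SL γ) {x : V} : γ x = 0 ↔ x = 0 :=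
  ⟨fun e => γ.injective (e.trans h.zero.symm), fun e => by rw [e, h.zero]⟩
theorem SL.bf (h : SL γ) (x y : V) : bf (γ x) (γ y) = bf x y := by
  rcases h with h | h <;> rw [U6.bf, h, h, U6.bf]
  rw [← hf_cj, ← hf_cj, add_comm]
theorem SL.hf0 (h : SL γ) (x y : V) : hf (γ x) (γ y) = 0 ↔ hf x y = 0 := by
  rcases h with h | h <;> rw [h]
  exact cj_eq_zero
theorem SL.qf (h : SL γ) (x : V) : hf (γ x) (γ x) = hf x x := by
  rcases h with h | h <;> rw [h]
  exact (hf_cj x x).symm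
theorem SL.smul (h : SL γ) (c : K4) (x : V) : ∃ c' : K4, (c' = 0 ↔ c = 0) ∧ γ (c • x) = c' • γ x :=
  h.elim (fun h => ⟨c, Iff.rfl, h.smul c x⟩) fun h => ⟨cj c, cj_eq_zero, h.smul c x⟩
theorem lin_one : Lin 1 := fun _ _ => rfl
theorem Lin.mul (h : Lin γ) (k : Lin δ) : Lin (γ * δ) := fun x y => (h _ _).trans (k x y)
theorem Lin.inv (h : Lin γ) : Lin γ⁻¹ := fun x y => by rw [← h]; simp
theorem ALin.inv (h : ALin γ) : ALin γ⁻¹ := fun x y => by
  rw [← cj_cj (hf (γ⁻¹ x) _), ← h]; simp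
theorem ALin.mul (h : ALin γ) (k : ALin δ) : Lin (γ * δ) := fun x y =>
  (h _ _).trans (by rw [k, cj_cj])
theorem Lin.mulA (h : Lin γ) (k : ALin δ) : ALin (γ * δ) := fun x y => (h _ _).trans (k x y)
theorem ALin.mulL (h : ALin γ) (k : Lin δ) : ALin (γ * δ) := fun x y => (h _ _).trans (by rw [k])
theorem Lin.not (h : Lin γ) : ¬ ALin γ := fun k => by
  have := (h (ω, 0, 0, 0) (1, 0, 0, 0)).symm.trans (k _ _)
  revert this; decide +kernel
theorem SL.mul (h : SL γ) (k : SL δ) : SL (γ * δ) :=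
  h.elim (fun h => k.imp h.mul h.mulA) fun h => k.symm.imp h.mul h.mulL
theorem SL.inv (h : SL γ) : SL γ⁻¹ := h.imp Lin.inv ALin.inv
theorem SL.sq (h : SL γ) : Lin (γ * γ) := h.elim (fun h => h.mul h) fun h => h.mul h
theorem SL.conj (h : SL γ) (k : Lin δ) : Lin (γ * δ * γ⁻¹) :=
  h.elim (fun h => (h.mul k).mul h.inv) fun h => (h.mulL k).mul h.inv
theorem SL.conjA (h : SL γ) (k : ALin δ) : ALin (γ * δ * γ⁻¹) :=
  h.elim (fun h => (h.mulA k).mulL h.inv) fun h => (h.mul k).mulA h.inv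
/-- a semilinear isometry fixing a nonzero vector and its `ω`-multiple is linear -/
theorem SL.lin (h : SL γ) {x : V} (x0 : x ≠ 0) (h1 : γ x = x) (h2 : γ (ω • x) = ω • x) : Lin γ :=
  h.resolve_right fun k => x0 (by
    rw [k.smul, h1, cj_ω, add_smul, one_smul] at h2
    simpa using h2)
def LinS : Subgroup (Equiv.Perm V) where
  carrier := {γ | Lin γ}
  one_mem' := lin_one
  mul_mem' := Lin.mul
  inv_mem' := Lin.inv

/-- the transvection with centre `p` -/
def τ (p : V) (h : hf p p = 0) : Equiv.Perm V := Function.Involutive.toPerm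
  (fun x => x + hf x p • p) fun x => by
    simp only [hf_addl, hf_smull, h, mul_zero, add_zero, V2r]
theorem tv_τ {p : V} (h : hf p p = 0) : Tv (τ p h) p := fun _ => rfl
theorem Tv.lin {p : V} (h : Tv γ p) (hp : hf p p = 0) : Lin γ := fun x y => by
  rw [h, h]
  simp only [hf_addl, hf_addr, hf_smull, hf_smulr, hp, ← hf_cj, mul_zero, add_zero]
  rw [add_assoc, mul_comm (hf p y), K2, add_zero]
theorem Tv.mem {p : V} (h : Tv γ p) (hp : hf p p = 0) : γ ∈ Γ0 := subset_closure ⟨p, hp, h⟩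
theorem Tv.eq {p : V} (h : Tv γ p) (k : Tv δ p) : γ = δ := Equiv.ext fun x => (h x).trans (k x).symm
theorem Tv.sq {p : V} (h : Tv γ p) (hp : hf p p = 0) : γ * γ = 1 := by
  rw [h.eq (tv_τ hp)]; exact Equiv.ext fun x => (τ p hp).left_inv x
theorem Tv.smul {p : V} (h : Tv γ p) {c : K4} (c0 : c ≠ 0) : Tv γ (c • p) := fun x => by
  rw [h, hf_smulr, smul_smul, mul_right_comm, mul_comm (cj c), mul_cj c c0, one_mul]
theorem Tv.conj {p : V} (h : Tv γ p) (k : SL δ) : Tv (δ * γ * δ⁻¹) (δ p) := fun x => by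
  obtain ⟨x, rfl⟩ := δ.surjective x
  rw [Equiv.Perm.mul_apply, Equiv.Perm.mul_apply, Equiv.Perm.inv_def, Equiv.symm_apply_apply, h,
    k.add]
  rcases k with k | k <;> rw [k.smul, k]
theorem Tv.ne_one {p : V} (h : Tv γ p) (p0 : p ≠ 0) : γ ≠ 1 := fun e => by
  obtain ⟨x, hx⟩ := ex_hf p0 1
  have := h x
  rw [e, hx, one_smul] at this
  exact p0 (by simpa using this)
theorem Tv.pt {p q : V} (h : Tv γ p) (k : Tv γ q) (p0 : p ≠ 0) : ∃ c : K4, c ≠ 0 ∧ p = c • q := by
  obtain ⟨x, hx⟩ := ex_hf p0 1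
  have := (h x).symm.trans (k x)
  rw [hx, one_smul, add_right_inj] at this
  exact ⟨_, fun e => p0 (by rw [this, e, zero_smul]), this⟩
theorem Tv.comm {p q : V} (h : Tv γ p) (k : Tv δ q) (e : hf p q = 0) : γ * δ = δ * γ :=
  Equiv.ext fun x => by
    simp only [Equiv.Perm.mul_apply, h _, k _, hf_addl, hf_smull, e, hf_symm e, mul_zero, add_zero]
    abel
theorem Tv.perp {p q : V} (h : Tv γ p) (k : Tv δ q) (hq : hf q q = 0) (e : γ * δ = δ * γ) :
    hf p q = 0 := by
  by_contra n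
  have n' : hf q p ≠ 0 := fun e => n (hf_symm e)
  have q0 : q ≠ 0 := fun e => n (by rw [e, hf0r])
  have := congrArg (fun g : Equiv.Perm V => g q) e
  simp only [Equiv.Perm.mul_apply, h _, k _, hf_addl, hf_smull, hq, zero_smul, add_zero,
    zero_add, left_eq_add, smul_eq_zero, mul_eq_zero] at this
  tauto
theorem Γ0_lin (h : γ ∈ Γ0) : Lin γ :=
  (closure_le LinS).2 (by rintro _ ⟨_, a, b⟩; exact b.lin a) h

end U6
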